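import Cfsg.Agent.Lib.FischerM24Unique.Main

set_option autoImplicit false

/-! Uniqueness in type M(24) from uniqueness in type M(23). -/

namespace CfsgLib.FischerM24Unique

open Subgroup
open CfsgLib.ThreeTrans (link)
open CfsgLib.FischerType CfsgLib.FischerOrder

universe u v

/-- Uniqueness of type M(23) for a pair of groups, with the usual hypotheses. -/
def UniqueM23At (X : Type u) [Group X] (E : Set X) (Y : Type v) [Group Y] (E' : Set Y) : Prop :=
  ∀ (_ : Cfsg.IsThreeTranspositionGroup E) (_ : Cfsg.IsPrimitiveUnderConj E) (_ : center X = ⊥)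
    (d : X) (_ : d ∈ E) (_ : Cfsg.pCore 3 ↥(closure (link E d)) ≤ center ↥(closure (link E d)))
    (_ : Cfsg.pCore 2 ↥(closure (link E d)) ≤ center ↥(closure (link E d)))
    (_ : Cfsg.IsThreeTranspositionGroup E') (_ : Cfsg.IsPrimitiveUnderConj E') (_ : center Y = ⊥)
    (d' : Y) (_ : d' ∈ E') (_ : Cfsg.pCore 3 ↥(closure (link E' d')) ≤ center ↥(closure (link E' d')))
    (_ : Cfsg.pCore 2 ↥(closure (link E' d')) ≤ center ↥(closure (link E' d')))
    (_ : Cfsg.IsOfTypeM23 X E) (_ : Cfsg.IsOfTypeM23 Y E'), ∃ e : X ≃* Y, e '' E = E'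

/-- In type M(23) some link group has central cores. -/
theorem pCore_link_le_of_typeM23 {X : Type u} [Group X] [Finite X] {E : Set X} (S : Setting E)
    (h : Cfsg.IsOfTypeM23 X E) :
    ∃ d ∈ E, Cfsg.pCore 3 ↥(closure (link E d)) ≤ center ↥(closure (link E d)) ∧
      Cfsg.pCore 2 ↥(closure (link E d)) ≤ center ↥(closure (link E d)) := by
  obtain ⟨-, d, hd, c, -, -, h22, -⟩ := h
  have : Fact (Nat.Prime 2) := ⟨Nat.prime_two⟩
  have : Fact (Nat.Prime 3) := ⟨Nat.prime_three⟩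
  exact ⟨d, hd,
    CfsgLib.FischerType.pCore_link_le_of_quot
      (CfsgLib.FischerM24.pCore_quot_eq_bot_of_typeM22 S.cls h22 (Or.inr rfl)),
    CfsgLib.FischerType.pCore_link_le_of_quot
      (CfsgLib.FischerM24.pCore_quot_eq_bot_of_typeM22 S.cls h22 (Or.inl rfl))⟩

theorem equiv_of_uniqueM23 {G : Type u} [Group G] [Finite G] {D : Set G} {G' : Type v} [Group G']
    [Finite G'] {D' : Set G'} (S : Setting D) (h : Cfsg.IsOfTypeM24 G D) (S' : Setting D')
    (h' : Cfsg.IsOfTypeM24 G' D')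
    (hU : ∀ d d', UniqueM23At (Quot D d) (img D d) (Quot D' d') (img D' d')) :
    ∃ e : G ≃* G', e '' D = D' := by
  obtain ⟨d, hd, -, SX, hX⟩ := M24.exists_link_data S h
  obtain ⟨d', hd', -, SX', hX'⟩ := M24.exists_link_data S' h'
  obtain ⟨u, hu, h3, h2⟩ := pCore_link_le_of_typeM23 SX hX
  obtain ⟨u', hu', h3', h2'⟩ := pCore_link_le_of_typeM23 SX' hX'
  obtain ⟨e, he⟩ := hU d d' (CfsgLib.ThreeTransp.class_to_group SX.cls) SX.prim SX.center_bot u hu h3 h2
    (CfsgLib.ThreeTransp.class_to_group SX'.cls) SX'.prim SX'.center_bot u' hu' h3' h2' hX hX'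
  exact exists_equiv S h S' h' hd hd' e he

end CfsgLib.FischerM24Unique
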