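import Cfsg.Agent.Lib.FischerM24Unique.Basic
import Cfsg.Agent.Lib.FischerM24.Parity

set_option autoImplicit false

/-! Isomorphisms between centralisers of members carrying links to links. -/

namespace CfsgLib.FischerM24Unique

open Subgroup
open CfsgLib.ThreeTrans (link commute_conj_iff' conj_self_of_commute)
open CfsgLib.FischerType CfsgLib.FischerPairCent
open CfsgLib.FischerM24 (C2 odd)

variable {G : Type*} [Group G] {G' : Type*} [Group G']

/-- A function which is on the centraliser of `a` an isomorphism onto that of `a'` respecting links. -/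
structure Lift (D : Set G) (D' : Set G') (a : G) (a' : G') (f : G → G') : Prop where
  mem : ∀ x, Commute x a → Commute (f x) a'
  map_mul : ∀ x y, Commute x a → Commute y a → f (x * y) = f x * f y
  inj : ∀ x y, Commute x a → Commute y a → f x = f y → x = y
  surj : ∀ y, Commute y a' → ∃ x, Commute x a ∧ f x = y
  map_self : f a = a'
  link_iff : ∀ x, Commute x a → (f x ∈ link D' a' ↔ x ∈ link D a)

variable {D : Set G} {D' : Set G'} {a : G} {a' : G'} {f : G → G'}

theorem Lift.map_one (L : Lift D D' a a' f) : f 1 = 1 := by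
  have h := L.map_mul 1 1 (Commute.one_left a) (Commute.one_left a)
  rw [mul_one] at h
  exact mul_eq_left.1 h.symm

theorem Lift.map_inv (L : Lift D D' a a' f) {x : G} (hx : Commute x a) : f x⁻¹ = (f x)⁻¹ := by
  refine eq_inv_of_mul_eq_one_left ?_
  rw [← L.map_mul _ _ hx.inv_left hx, inv_mul_cancel, L.map_one]

theorem Lift.map_conj (L : Lift D D' a a' f) {k x : G} (hk : Commute k a) (hx : Commute x a) :
    f (k * x * k⁻¹) = f k * f x * (f k)⁻¹ := by
  rw [L.map_mul _ _ (hk.mul_left hx) hk.inv_left, L.map_mul _ _ hk hx, L.map_inv hk]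

theorem Lift.commute_iff (L : Lift D D' a a' f) {x y : G} (hx : Commute x a) (hy : Commute y a) :
    Commute (f x) (f y) ↔ Commute x y := by
  unfold Commute SemiconjBy
  rw [← L.map_mul _ _ hx hy, ← L.map_mul _ _ hy hx]
  exact ⟨L.inj _ _ (hx.mul_left hy) (hy.mul_left hx), fun h => by rw [h]⟩

theorem Lift.link_mem (L : Lift D D' a a' f) {x : G} (hx : x ∈ link D a) : f x ∈ link D' a' :=
  (L.link_iff x hx.2.2.symm).2 hx

theorem Lift.exists_link (L : Lift D D' a a' f) {y : G'} (hy : y ∈ link D' a') :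
    ∃ x ∈ link D a, f x = y := by
  obtain ⟨x, hx, rfl⟩ := L.surj y hy.2.2.symm
  exact ⟨x, (L.link_iff x hx).1 hy, rfl⟩

theorem Lift.link_link_iff (L : Lift D D' a a' f) {x y : G} (hx : x ∈ link D a) (hy : y ∈ link D a) :
    f y ∈ link D' (f x) ↔ y ∈ link D x := by
  have hx' := hx.2.2.symm
  have hy' := hy.2.2.symm
  constructor
  · exact fun h => ⟨hy.1, fun e => h.2.1 (by rw [e]), (L.commute_iff hx' hy').1 h.2.2⟩
  · exact fun h => ⟨(L.link_mem hy).1, fun e => h.2.1 (L.inj _ _ hy' hx' e),
      (L.commute_iff hx' hy').2 h.2.2⟩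

theorem Lift.mem_cn_iff (L : Lift D D' a a' f) {t x : G} (ht : t ∈ link D a) (hx : x ∈ link D a) :
    f x ∈ cn D' a' (f t) ↔ x ∈ cn D a t :=
  and_congr (iff_of_true (L.link_mem hx) hx) (L.link_link_iff ht hx)

theorem Lift.image_cn (L : Lift D D' a a' f) {t : G} (ht : t ∈ link D a) :
    f '' cn D a t = cn D' a' (f t) := by
  ext y
  constructor
  · rintro ⟨x, hx, rfl⟩
    exact (L.mem_cn_iff ht hx.1).2 hx
  · intro hy
    obtain ⟨x, hx, rfl⟩ := L.exists_link hy.1
    exact ⟨x, (L.mem_cn_iff ht hx).1 hy, rfl⟩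

/-- Following a lift by a conjugation. -/
theorem Lift.conjLeft (L : Lift D D' a a' f) (hc : Cfsg.IsThreeTranspositionClass D') (k : G') :
    Lift D D' a (k * a' * k⁻¹) fun x => k * f x * k⁻¹ where
  mem x hx := (commute_conj_iff' k _ _).2 (L.mem x hx)
  map_mul x y hx hy := by simp only [L.map_mul x y hx hy]; group
  inj x y hx hy h := L.inj x y hx hy (mul_left_cancel (mul_right_cancel h))
  surj y hy := by
    obtain ⟨x, hx, e⟩ := L.surj (k⁻¹ * y * k) ((commute_conj_iff' k _ _).1 (by simpa [mul_assoc] using hy))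
    exact ⟨x, hx, by rw [e]; group⟩
  map_self := by simp only [L.map_self]
  link_iff x hx := (mem_link_conj hc k).trans (L.link_iff x hx)

/-- Preceding a lift by a conjugation. -/
theorem Lift.conjRight {g : G} (L : Lift D D' (g * a * g⁻¹) a' f)
    (hc : Cfsg.IsThreeTranspositionClass D) : Lift D D' a a' fun x => f (g * x * g⁻¹) where
  mem x hx := L.mem _ ((commute_conj_iff' g _ _).2 hx)
  map_mul x y hx hy := by
    simp only [← L.map_mul _ _ ((commute_conj_iff' g _ _).2 hx) ((commute_conj_iff' g _ _).2 hy)]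
    exact congrArg f (by group)
  inj x y hx hy h := mul_left_cancel (mul_right_cancel
    (L.inj _ _ ((commute_conj_iff' g _ _).2 hx) ((commute_conj_iff' g _ _).2 hy) h))
  surj y hy := by
    obtain ⟨x, hx, rfl⟩ := L.surj y hy
    refine ⟨g⁻¹ * x * g, (commute_conj_iff' g _ _).1 (by simpa [mul_assoc] using hx), congrArg f (by group)⟩
  map_self := L.map_self
  link_iff x hx := (L.link_iff _ ((commute_conj_iff' g _ _).2 hx)).trans (mem_link_conj hc g)

/-- With a parity the centraliser of a member is the product of two and its quotient. -/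
theorem exists_split (hset : Cfsg.IsThreeTranspositionSet D) {d : G} (hd : d ∈ D)
    (hcen : centralizer ({d} : Set G) = closure (link D d))
    (hZ : ∀ z : ↥(closure (link D d)), z ∈ center ↥(closure (link D d)) → (z : G) = 1 ∨ (z : G) = d)
    (φ : G →* C2) (hφ : ∀ x ∈ D, φ x = odd) :
    ∃ E : ↥(closure (link D d)) ≃* C2 × Quot D d, ∀ k, E k = (φ k, QuotientGroup.mk k) := by
  let π : ↥(closure (link D d)) →* C2 × Quot D d :=
    (φ.comp (closure (link D d)).subtype).prod (QuotientGroup.mk' _)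
  have hdH : d ∈ closure (link D d) := hcen ▸ mem_centralizer_singleton_iff.2 rfl
  have hdZ : (⟨d, hdH⟩ : ↥(closure (link D d))) ∈ center ↥(closure (link D d)) :=
    mem_center_iff.2 fun y => Subtype.ext (mem_centralizer_singleton_iff.1
      (CfsgLib.FischerUnique.closure_link_le_centralizer y.2))
  have hinj : Function.Injective π := by
    refine (injective_iff_map_eq_one π).2 fun k hk => ?_
    have h1 : (k : G) = 1 ∨ (k : G) = d := hZ k ((QuotientGroup.eq_one_iff k).1 (congrArg Prod.snd hk))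
    rcases h1 with h1 | h1
    · exact Subtype.ext h1
    · exfalso
      have h2 : φ (k : G) = 1 := congrArg Prod.fst hk
      rw [h1, hφ d hd] at h2
      exact absurd h2 (by decide)
  have hsurj : Function.Surjective π := by
    rintro ⟨c, q⟩
    obtain ⟨k, rfl⟩ := QuotientGroup.mk_surjective q
    have hcases : ∀ u v : C2, u = v ∨ u = v * odd := by decide
    rcases hcases c (φ k) with hc | hc
    · exact ⟨k, Prod.ext hc.symm rfl⟩
    · refine ⟨k * ⟨d, hdH⟩, Prod.ext ?_ ?_⟩
      · show φ ((k : G) * d) = c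
        rw [_root_.map_mul, hφ d hd, hc]
      · show QuotientGroup.mk (k * ⟨d, hdH⟩) = QuotientGroup.mk k
        rw [QuotientGroup.mk_mul, (QuotientGroup.eq_one_iff _).2 hdZ, mul_one]
  exact ⟨MulEquiv.ofBijective π ⟨hinj, hsurj⟩, fun k => rfl⟩

/-- An isomorphism of the quotients lifts. -/
theorem exists_lift (hset : Cfsg.IsThreeTranspositionSet D) (hset' : Cfsg.IsThreeTranspositionSet D')
    {d : G} {d' : G'} (hd : d ∈ D) (hd' : d' ∈ D')
    (hcen : centralizer ({d} : Set G) = closure (link D d))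
    (hcen' : centralizer ({d'} : Set G') = closure (link D' d'))
    (hZ : ∀ z : ↥(closure (link D d)), z ∈ center ↥(closure (link D d)) → (z : G) = 1 ∨ (z : G) = d)
    (hZ' : ∀ z : ↥(closure (link D' d')), z ∈ center ↥(closure (link D' d')) →
      (z : G') = 1 ∨ (z : G') = d')
    (φ : G →* C2) (hφ : ∀ x ∈ D, φ x = odd) (φ' : G' →* C2) (hφ' : ∀ x ∈ D', φ' x = odd)
    (e : Quot D d ≃* Quot D' d') (he : e '' img D d = img D' d') :
    ∃ f, Lift D D' d d' f := by
  classical
  obtain ⟨P, hP⟩ := exists_split hset hd hcen hZ φ hφ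
  obtain ⟨P', hP'⟩ := exists_split hset' hd' hcen' hZ' φ' hφ'
  set E := P.trans (((MulEquiv.refl C2).prodCongr e).trans P'.symm) with hE
  let f : G → G' := fun x => if hx : x ∈ closure (link D d) then (E ⟨x, hx⟩ : G') else 1
  have hf : ∀ {x} (hx : x ∈ closure (link D d)), f x = (E ⟨x, hx⟩ : G') := fun {x} hx => dif_pos hx
  have hin : ∀ {x}, Commute x d → x ∈ closure (link D d) := fun {x} hx =>
    hcen ▸ mem_centralizer_singleton_iff.2 hx.eq
  have key : ∀ (k : ↥(closure (link D d))) (k' : ↥(closure (link D' d'))),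
      φ' k' = φ k → QuotientGroup.mk k' = e (QuotientGroup.mk k) → E k = k' := by
    intro k k' h1 h2
    rw [hE, MulEquiv.trans_apply, MulEquiv.trans_apply, MulEquiv.symm_apply_eq, hP', hP]
    exact Prod.ext h1.symm h2.symm
  have hlink : ∀ x ∈ link D d, f x ∈ link D' d' := by
    intro x hx
    obtain ⟨w, hw, hwe⟩ := exists_toImg (he ▸ ⟨_, toImg_mem hx, rfl⟩ : e (toImg D d hx) ∈ img D' d')
    rw [hf (subset_closure hx), key ⟨x, subset_closure hx⟩ ⟨w, subset_closure hw⟩
      (by rw [hφ' w hw.1, hφ x hx.1]) hwe]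
    exact hw
  refine ⟨f, fun x hx => ?_, fun x y hx hy => ?_, fun x y hx hy h => ?_, fun y hy => ?_, ?_,
    fun x hx => ⟨fun h => ?_, hlink x⟩⟩
  · rw [hf (hin hx)]
    exact mem_centralizer_singleton_iff.1 (hcen'.ge (E ⟨x, hin hx⟩).2)
  · rw [hf (hin hx), hf (hin hy), hf (hin (hx.mul_left hy)), ← Subgroup.coe_mul, ← _root_.map_mul]
    rfl
  · rw [hf (hin hx), hf (hin hy)] at h
    exact congrArg Subtype.val (E.injective (Subtype.ext h))
  · obtain ⟨k, hk⟩ := E.surjective ⟨y, hcen' ▸ mem_centralizer_singleton_iff.2 hy.eq⟩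
    exact ⟨k, mem_centralizer_singleton_iff.1 (hcen.ge k.2), by rw [hf k.2, Subtype.coe_eta, hk]⟩
  · have hdH := hin (Commute.refl d)
    have hdH' : d' ∈ closure (link D' d') := hcen' ▸ mem_centralizer_singleton_iff.2 rfl
    rw [hf hdH, key ⟨d, hdH⟩ ⟨d', hdH'⟩ (by rw [hφ' d' hd', hφ d hd])]
    rw [(QuotientGroup.eq_one_iff _).2 (mem_center_iff.2 fun y => Subtype.ext
      (mem_centralizer_singleton_iff.1 (CfsgLib.FischerUnique.closure_link_le_centralizer y.2))),
      (QuotientGroup.eq_one_iff _).2 (mem_center_iff.2 fun y => Subtype.ext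
      (mem_centralizer_singleton_iff.1 (CfsgLib.FischerUnique.closure_link_le_centralizer y.2))),
      _root_.map_one]
  · have h1 : (toImg D' d' h) ∈ e '' img D d := he ▸ toImg_mem h
    obtain ⟨_, hq, hqe⟩ := h1
    obtain ⟨u, hu, rfl⟩ := exists_toImg hq
    have h2 : E ⟨u, subset_closure hu⟩ = ⟨f x, subset_closure h⟩ :=
      key ⟨u, subset_closure hu⟩ ⟨f x, subset_closure h⟩ (by rw [hφ' (f x) h.1, hφ u hu.1]) hqe.symm
    have h3 : E ⟨x, hin hx⟩ = ⟨f x, subset_closure h⟩ := Subtype.ext (hf (hin hx)).symm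
    rw [← show u = x from congrArg Subtype.val (E.injective (h2.trans h3.symm))]
    exact hu

/-- A function which is an injective homomorphism on the group generated by `s` restricts. -/
theorem exists_restrict {s : Set G} {s' : Set G'} (g : G → G') (himg : g '' s = s')
    (hmul : ∀ x ∈ closure s, ∀ y ∈ closure s, g (x * y) = g x * g y)
    (hinj : ∀ x ∈ closure s, ∀ y ∈ closure s, g x = g y → x = y) :
    ∃ e : ↥(closure s) ≃* ↥(closure s'), ∀ k, ((e k : G')) = g k := by
  let ι : ↥(closure s) →* G' := MonoidHom.mk' (fun k => g k) fun x y => hmul x x.2 y y.2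
  have hrange : ι.range = closure s' := by
    rw [← himg, MonoidHom.range_eq_map,
      ← show closure {k : ↥(closure s) | (k : G) ∈ s} = ⊤ from closure_closure_coe_preimage,
      MonoidHom.map_closure]
    refine congrArg Subgroup.closure (Set.ext fun y => ⟨?_, ?_⟩)
    · rintro ⟨k, hk, rfl⟩; exact ⟨k, hk, rfl⟩
    · rintro ⟨x, hx, rfl⟩; exact ⟨⟨x, subset_closure hx⟩, hx, rfl⟩
  exact ⟨(MonoidHom.ofInjective (f := ι) fun x y h => Subtype.ext (hinj x x.2 y y.2 h)).trans
    (MulEquiv.subgroupCongr hrange), fun k => rfl⟩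

end CfsgLib.FischerM24Unique
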