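import Cfsg.Agent.Lib.FischerM24Unique.Basic
import Cfsg.Agent.Lib.FischerM24Unique.Counts
import Cfsg.Agent.Lib.FischerPairCent.TypeM24
import Cfsg.Agent.Lib.FischerOrder.CountsM24

set_option autoImplicit false

/-! The group of the common neighbours of two non-commuting members and its simple part. -/

namespace CfsgLib.FischerM24Unique

open Subgroup
open CfsgLib.ThreeTrans (link commute_conj_iff' conj_self_of_commute mul_self inv_eq)
open CfsgLib.FischerType CfsgLib.FischerPairCent CfsgLib.FischerOrder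

variable {G : Type*} [Group G] {D : Set G}

/-- Conjugating the second member by the first does not change the common neighbours. -/
theorem cn_pair_eq (hc : Cfsg.IsThreeTranspositionClass D) (a c : G) :
    cn D a (a * c * a⁻¹) = cn D a c := by
  have key : ∀ x, x ∈ link D a → (x ∈ link D (a * c * a⁻¹) ↔ x ∈ link D c) := fun x hx => by
    have h := mem_link_conj (x := x) (a := c) hc a
    rwa [conj_self_of_commute hx.2.2] at h
  ext x
  exact ⟨fun h => ⟨h.1, (key x h.1).1 h.2⟩, fun h => ⟨h.1, (key x h.1).2 h.2⟩⟩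

/-- A map of the pair group on the symmetric group of degree three with large simple kernel. -/
structure PairMap (D : Set G) (a c : G) where
  /-- the map -/
  π : ↥(closure (cn D a c)) →* Equiv.Perm (Fin 3)
  surj : Function.Surjective π
  simple : IsSimpleGroup ↥π.ker
  card : Nat.card ↥π.ker = 4952179814400

variable [Finite G]

theorem nonempty_pairMap (S : Setting D) (h : Cfsg.IsOfTypeM24 G D) {a c : G} (ha : a ∈ D)
    (hc : c ∈ D) (hac : ¬ Commute a c) : Nonempty (PairMap D a c) := by
  obtain ⟨d₀, hd₀, h3, h2⟩ := CfsgLib.FischerM24.pCore_link_le_of_typeM24 S h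
  obtain ⟨⟨eN⟩, hn, ⟨eS⟩⟩ := fstar_of_typeM24 S h hd₀ h3 h2 ha hc hac
  set C := centralizer ({a, c} : Set G) with hC
  set N := Cfsg.generalizedFittingSubgroup ↥C
  let e : ↥C ≃* ↥(closure (cn D a c)) :=
    MulEquiv.subgroupCongr (centralizer_pair_eq (pairs_of_typeM24 S h hd₀ h3 h2 a ha c hc hac))
  let π : ↥(closure (cn D a c)) →* Equiv.Perm (Fin 3) :=
    (eS.toMonoidHom.comp (QuotientGroup.mk' N)).comp e.symm.toMonoidHom
  have hker : π.ker = N.map e.toMonoidHom := by
    ext x
    rw [MonoidHom.mem_ker, mem_map_equiv]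
    exact (eS.map_eq_one_iff).trans (QuotientGroup.eq_one_iff _)
  let eK : ↥π.ker ≃* Cfsg.POmega (ZMod 3) (Cfsg.quadFormPlus 4 (ZMod 3)) :=
    (MulEquiv.subgroupCongr hker).trans
      ((N.equivMapOfInjective e.toMonoidHom e.injective).symm.trans eN)
  haveI := isSimpleGroup_pomega_plus_three
  refine ⟨⟨π, eS.surjective.comp ((QuotientGroup.mk'_surjective N).comp e.symm.surjective),
    eK.isSimpleGroup, ?_⟩⟩
  rw [Nat.card_congr eK.toEquiv, M24.card_pomega_eight_three]

variable {a c : G}

omit [Finite G] in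
theorem PairMap.closure_mem (hc' : Cfsg.IsThreeTranspositionClass D) {k x : G}
    (hk : k ∈ closure (cn D a c)) : k * x * k⁻¹ ∈ cn D a c ↔ x ∈ cn D a c := by
  have hle : closure (cn D a c) ≤ centralizer {a, c} := (closure_le _).2 (cn_subset_centralizer a c)
  obtain ⟨hka, hkc⟩ := mem_centralizer_pair.1 (hle hk)
  have := mem_cn_conj (x := x) (a := a) (b := c) hc' k
  rwa [conj_self_of_commute hka, conj_self_of_commute hkc] at this

/-- Commuting members are conjugate under the kernel. -/
theorem PairMap.exists_ker_conj (P : PairMap D a c) (S : Setting D) (hd : PairData D 8 a c) {x y : G}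
    (hx : x ∈ cn D a c) (hy : y ∈ cn D a c) (hxy : Commute x y) :
    ∃ k : ↥(closure (cn D a c)), k ∈ P.π.ker ∧ (k : G) * y * (k : G)⁻¹ = x := by
  set X : ↥(closure (cn D a c)) := ⟨x, subset_closure hx⟩
  set Y : ↥(closure (cn D a c)) := ⟨y, subset_closure hy⟩
  have hne : ∀ (z : G) (hz : z ∈ cn D a c), P.π ⟨z, subset_closure hz⟩ ≠ 1 := by
    intro z hz h1
    have hall : (P.π.ker.map (closure (cn D a c)).subtype) ≥ closure (cn D a c) := by
      refine (closure_le _).2 fun t ht => ?_
      obtain ⟨j, hj, hjz⟩ := hd.trans z hz t ht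
      exact ⟨⟨j, hj⟩ * ⟨z, subset_closure hz⟩ * ⟨j, hj⟩⁻¹, MonoidHom.mem_ker.2 (by
        rw [map_mul, map_mul, h1, map_inv, mul_one, mul_inv_cancel]), hjz⟩
    obtain ⟨w, hw⟩ := P.surj (Equiv.swap 0 1)
    obtain ⟨w', hw', hwe⟩ := hall w.2
    rw [show w = w' from Subtype.ext hwe.symm, MonoidHom.mem_ker.1 hw'] at hw
    exact absurd hw (by decide)
  have hsq : ∀ (z : G) (hz : z ∈ cn D a c),
      P.π ⟨z, subset_closure hz⟩ * P.π ⟨z, subset_closure hz⟩ = 1 := fun z hz => by
    rw [← map_mul, show (⟨z, subset_closure hz⟩ : ↥(closure (cn D a c))) * ⟨z, subset_closure hz⟩ = 1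
      from Subtype.ext (mul_self S.cls.1 hz.1.1), map_one]
  have hinv : ∀ p q : Equiv.Perm (Fin 3),
      p * p = 1 → q * q = 1 → p * q = q * p → p ≠ 1 → q ≠ 1 → p = q := by decide
  have hcent : ∀ p q : Equiv.Perm (Fin 3), q * q = 1 → q ≠ 1 → p * q = q * p → p = 1 ∨ p = q := by
    decide
  have hXY : P.π X = P.π Y := hinv _ _ (hsq x hx) (hsq y hy)
    (by rw [← map_mul, ← map_mul]; exact congrArg P.π (Subtype.ext hxy.eq)) (hne x hx) (hne y hy)
  obtain ⟨j, hj, hjy⟩ := hd.trans y hy x hx
  have hJ : (⟨j, hj⟩ : ↥(closure (cn D a c))) * Y = X * ⟨j, hj⟩ :=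
    Subtype.ext (show j * y = x * j by rw [← hjy]; group)
  have hJ' : P.π ⟨j, hj⟩ * P.π Y = P.π Y * P.π ⟨j, hj⟩ := by
    have := congrArg P.π hJ
    rwa [map_mul, map_mul, hXY] at this
  rcases hcent _ _ (hsq y hy) (hne y hy) hJ' with h | h
  · exact ⟨⟨j, hj⟩, MonoidHom.mem_ker.2 h, hjy⟩
  · refine ⟨⟨j, hj⟩ * Y, MonoidHom.mem_ker.2 ?_, ?_⟩
    · rw [map_mul, h, hsq y hy]
    · show j * y * y * (j * y)⁻¹ = x
      rw [← hjy]; group

/-- Joined by a path of commuting common neighbours. -/
def comp (D : Set G) (a c w : G) : Set G :=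
  {x | Relation.ReflTransGen (fun y z => y ∈ cn D a c ∧ z ∈ cn D a c ∧ z ∈ link D y) w x}

omit [Finite G] in
theorem mem_of_comp {w x : G} (hw : w ∈ cn D a c) (hx : x ∈ comp D a c w) : x ∈ cn D a c := by
  change Relation.ReflTransGen _ w x at hx
  induction hx with
  | refl => exact hw
  | tail _ h _ => exact h.2.1

omit [Finite G] in
theorem comp_eq {w x : G} (hx : x ∈ comp D a c w) : comp D a c x = comp D a c w := by
  have hsymm : Std.Symm (fun y z => y ∈ cn D a c ∧ z ∈ cn D a c ∧ z ∈ link D y) :=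
    ⟨fun y z h => ⟨h.2.1, h.1, link_symm h.1.1.1 h.2.2⟩⟩
  ext y
  exact ⟨fun hy => Relation.ReflTransGen.trans hx hy, fun hy => Relation.ReflTransGen.trans
    (haveI := hsymm; Std.Symm.symm (r := Relation.ReflTransGen _) _ _ hx) hy⟩

omit [Finite G] in
theorem conj_mem_comp (hc' : Cfsg.IsThreeTranspositionClass D) {k w x : G}
    (hk : k ∈ closure (cn D a c)) (hx : x ∈ comp D a c w) :
    k * x * k⁻¹ ∈ comp D a c (k * w * k⁻¹) := by
  change Relation.ReflTransGen _ w x at hx
  induction hx with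
  | refl => exact Relation.ReflTransGen.refl
  | tail _ h ih =>
    exact Relation.ReflTransGen.tail ih ⟨(PairMap.closure_mem hc' hk).2 h.1,
      (PairMap.closure_mem hc' hk).2 h.2.1, link_conj_mem hc' k h.2.2⟩

/-- The kernel fixes every component, and lies in the group it generates. -/
theorem PairMap.ker_le_comp (P : PairMap D a c) (S : Setting D) (h : Cfsg.IsOfTypeM24 G D)
    (ha : a ∈ D) (hc : c ∈ D) (hac : ¬ Commute a c) {w : G} (hw : w ∈ cn D a c) :
    P.π.ker.map (closure (cn D a c)).subtype ≤ closure (comp D a c w) := by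
  classical
  haveI := P.simple
  set W := closure (cn D a c) with hW
  set T := comp D a c '' cn D a c with hT
  -- few components
  have hbig : ∀ K ∈ T, 352 ≤ K.ncard := by
    rintro K ⟨x, hx, rfl⟩
    have hsub : insert x (cn D a c ∩ link D x) ⊆ comp D a c x := by
      rintro y (rfl | hy)
      · exact Relation.ReflTransGen.refl
      · exact Relation.ReflTransGen.single ⟨hx, hy.1, hy.2⟩
    refine le_trans ?_ (Set.ncard_le_ncard hsub (Set.toFinite _))
    rw [Set.ncard_insert_of_notMem (fun h' => h'.2.2.1 rfl) (Set.toFinite _),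
      ncard_cn_link S h ha hc hac hx]
  have hTcard : Nat.card T ≤ 9 := by
    have : Fintype T := Fintype.ofFinite _
    have h1 : ∀ K ∈ T.toFinset, 352 ≤ ((cn D a c).toFinite.toFinset.filter
        (fun x => comp D a c x = K)).card := by
      intro K hK
      rw [Set.mem_toFinset] at hK
      refine le_trans (hbig K hK) (le_of_eq_of_le (Set.ncard_eq_toFinset_card K (Set.toFinite _))
        (Finset.card_le_card fun x hx => ?_))
      obtain ⟨u, hu, rfl⟩ := hK
      rw [Set.Finite.mem_toFinset] at hx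
      rw [Finset.mem_filter, Set.Finite.mem_toFinset]
      exact ⟨mem_of_comp hu hx, comp_eq hx⟩
    have h2 := Finset.card_eq_sum_card_fiberwise (f := comp D a c)
      (s := (cn D a c).toFinite.toFinset) (t := T.toFinset) fun x hx => Set.mem_toFinset.2
        ⟨x, (Set.Finite.mem_toFinset _).1 hx, rfl⟩
    have h3 := Finset.card_nsmul_le_sum _ _ _ h1
    rw [← h2, ← Set.ncard_eq_toFinset_card, mu_of_typeM24 S h a ha c hc hac, smul_eq_mul] at h3
    rw [Nat.card_eq_fintype_card, ← Set.toFinset_card]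
    omega
  -- the action on them
  have himg : ∀ k ∈ W, ∀ x, (fun y => k * y * k⁻¹) '' comp D a c x = comp D a c (k * x * k⁻¹) := by
    intro k hk x
    refine Set.Subset.antisymm (fun y => ?_) fun y hy => ⟨k⁻¹ * y * k, ?_, by group⟩
    · rintro ⟨z, hz, rfl⟩
      exact conj_mem_comp S.cls hk hz
    · simpa [mul_assoc] using conj_mem_comp S.cls (inv_mem hk) hy
  let act : ↥P.π.ker → T → T := fun k K => ⟨(fun y => (k : G) * y * (k : G)⁻¹) '' K.1, by
    obtain ⟨x, hx, e⟩ := K.2
    rw [← e, himg _ k.1.2]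
    exact ⟨_, (PairMap.closure_mem S.cls k.1.2).2 hx, rfl⟩⟩
  have hone : ∀ K, act 1 K = K := fun K => Subtype.ext (by simp [act])
  have hmul : ∀ k l K, act (k * l) K = act k (act l K) := fun k l K => Subtype.ext (by
    simp only [act, Set.image_image]
    refine Set.image_congr fun y _ => ?_
    simp [mul_assoc])
  letI : MulAction ↥P.π.ker T := { smul := act, one_smul := hone, mul_smul := hmul }
  let ρ := MulAction.toPermHom ↥P.π.ker T
  have htriv : ρ.ker = ⊤ := by
    refine (Subgroup.Normal.eq_bot_or_eq_top (inferInstance : ρ.ker.Normal)).resolve_left fun h0 => ?_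
    have h1 := Nat.card_le_card_of_injective ρ ((MonoidHom.ker_eq_bot_iff ρ).1 h0)
    rw [P.card, Nat.card_perm] at h1
    have h2 := le_trans h1 (Nat.factorial_le hTcard)
    norm_num [Nat.factorial] at h2
  have hfix : ∀ k : ↥P.π.ker, ∀ x ∈ comp D a c w, (k : G) * x * (k : G)⁻¹ ∈ comp D a c w := by
    intro k x hx
    have h1 : ρ k = 1 := MonoidHom.mem_ker.1 (htriv ▸ mem_top k)
    have h2 : act k ⟨_, ⟨w, hw, rfl⟩⟩ = ⟨_, ⟨w, hw, rfl⟩⟩ := Equiv.Perm.ext_iff.1 h1 _
    exact (congrArg Subtype.val h2).le ⟨x, hx, rfl⟩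
  -- the part of the kernel in the group of the component
  have hHW : closure (comp D a c w) ≤ W := closure_mono fun x hx => mem_of_comp hw hx
  set N₀ := ((closure (comp D a c w)).subgroupOf W).subgroupOf P.π.ker with hN₀
  have hnorm : ∀ k : ↥P.π.ker, ∀ y ∈ closure (comp D a c w),
      (k : G) * y * (k : G)⁻¹ ∈ closure (comp D a c w) := by
    intro k y hy
    induction hy using closure_induction with
    | mem y hy => exact subset_closure (hfix k y hy)
    | one => simpa using one_mem (closure (comp D a c w))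
    | mul y z _ _ ihy ihz => simpa [mul_assoc] using mul_mem ihy ihz
    | inv y _ ih => simpa [mul_assoc] using inv_mem ih
  haveI : N₀.Normal := ⟨fun n hn k => hnorm k _ hn⟩
  rcases Subgroup.Normal.eq_bot_or_eq_top (inferInstance : N₀.Normal) with h0 | h0
  · exfalso
    set H := (closure (comp D a c w)).subgroupOf W
    have hinj : Function.Injective (P.π.comp H.subtype) := by
      refine (injective_iff_map_eq_one _).2 fun y hy => Subtype.ext ?_
      have h1 : (⟨y.1, MonoidHom.mem_ker.2 hy⟩ : ↥P.π.ker) ∈ N₀ := y.2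
      rw [h0, mem_bot] at h1
      exact congrArg (fun z : ↥P.π.ker => (z : ↥W)) h1
    have h1 := Nat.card_le_card_of_injective _ hinj
    rw [Nat.card_congr (subgroupOfEquivOfLe hHW).toEquiv, Nat.card_perm, Nat.card_fin] at h1
    have h2 : (comp D a c w).ncard ≤ Nat.card ↥(closure (comp D a c w)) := by
      rw [← Nat.card_coe_set_eq]
      exact Nat.card_le_card_of_injective (fun x => (⟨x.1, subset_closure x.2⟩ :
        ↥(closure (comp D a c w)))) fun x y e => Subtype.ext (congrArg (fun z => z.1) e :)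
    have h3 := hbig _ ⟨w, hw, rfl⟩
    norm_num [Nat.factorial] at h1
    omega
  · rintro _ ⟨k, hk, rfl⟩
    have : (⟨k, hk⟩ : ↥P.π.ker) ∈ N₀ := h0 ▸ mem_top _
    exact this

end CfsgLib.FischerM24Unique
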