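import Cfsg.Agent.Lib.FischerM24Unique.Counts

set_option autoImplicit false

/-! In type M(24) three members, the first commuting with neither other, have a common neighbour. -/

namespace CfsgLib.FischerM24Unique

open Subgroup
open CfsgLib.ThreeTrans (link commute_conj_iff' conj_self_of_commute mul_self inv_eq braid)
open CfsgLib.FischerType CfsgLib.FischerPairCent CfsgLib.FischerOrder

/-- A square sum cannot carry that many zeros. -/
theorem square_bound {α : Type*} [DecidableEq α] (R O : Finset α) (f : α → ℤ) (hO : O ⊆ R)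
    (hf : ∀ x ∈ O, f x = 0) : (O.card : ℤ) * 107584 ≤ ∑ x ∈ R, (f x - 328) ^ 2 := by
  have h1 : ∑ x ∈ O, (f x - 328) ^ 2 = (O.card : ℤ) * 107584 := by
    rw [Finset.sum_congr rfl fun x hx => by rw [hf x hx]]
    simp [Finset.sum_const]
  rw [← h1]
  exact Finset.sum_le_sum_of_subset_of_nonneg hO fun x _ _ => sq_nonneg _

variable {G : Type*} [Group G] [Finite G] {D : Set G} (S : Setting D) (h : Cfsg.IsOfTypeM24 G D)

include S h

/-- Three members, the first commuting with neither other, have a common neighbour. -/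
theorem exists_common_triple {a y z : G} (ha : a ∈ D) (hy : y ∈ D) (hz : z ∈ D)
    (hay : ¬ Commute a y) (haz : ¬ Commute a z) : ∃ w ∈ cn D a y, Commute w z := by
  classical
  have : Fintype G := Fintype.ofFinite G
  by_contra! hbad
  set y' := a * y * a⁻¹ with hy'
  set Sf := Finset.univ.filter (fun w => w ∈ cn D a y) with hSf
  have hSmem : ∀ {w}, w ∈ Sf ↔ w ∈ cn D a y := fun {w} => by simp [hSf]
  have hS : Sf.card = 3240 := by
    rw [← mu_of_typeM24 S h a ha y hy hay, Set.ncard_eq_toFinset_card']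
    exact congrArg Finset.card (by ext; simp [hSf])
  let n : G → ℕ := fun x => (Sf.filter fun w => x ∈ link D w).card
  have hset := S.cls.1
  have hy'D : y' ∈ D := CfsgLib.ThreeTransp.class_conj_mem S.cls a hy
  have hall : ∀ w ∈ Sf, a ∈ link D w ∧ y ∈ link D w ∧ y' ∈ link D w := fun w hw => by
    have hw' := hSmem.1 hw
    have h1 := link_symm ha hw'.1
    have h2 := link_symm hy hw'.2
    refine ⟨h1, h2, ?_⟩
    have h3 := link_conj_mem S.cls a h2
    rwa [conj_self_of_commute hw'.1.2.2] at h3
  -- special points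
  have hn3 : ∀ x ∈ ({a, y, y'} : Finset G), n x = 3240 := by
    intro x hx
    rw [← hS]
    refine congrArg Finset.card (Finset.filter_true_of_mem fun w hw => ?_)
    obtain ⟨h1, h2, h3⟩ := hall w hw
    simp only [Finset.mem_insert, Finset.mem_singleton] at hx
    rcases hx with rfl | rfl | rfl
    exacts [h1, h2, h3]
  have hnS : ∀ x ∈ Sf, n x = 351 := fun x hx => by
    have hx' := hSmem.1 hx
    rw [← ncard_cn_link S h ha hy hay hx', Set.ncard_eq_toFinset_card']
    refine congrArg Finset.card (Finset.ext fun w => ?_)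
    simp only [Finset.mem_filter, hSmem, Set.mem_toFinset, Set.mem_inter_iff]
    exact ⟨fun ⟨hw, hxw⟩ => ⟨hw, link_symm hw.1.1 hxw⟩, fun ⟨hw, hwx⟩ => ⟨hw, link_symm hx'.1.1 hwx⟩⟩
  -- distinctness
  have h3card : ({a, y, y'} : Finset G).card = 3 := by
    have e1 : a ≠ y := fun e => hay (by rw [e])
    have e2 : a ≠ y' := fun e => e1 (by
      have := congrArg (fun g => a⁻¹ * g * a) e
      simpa [hy', mul_assoc] using this)
    have e3 : y ≠ y' := fun e => hay ((mul_inv_eq_iff_eq_mul.1 (hy'.symm.trans e.symm)))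
    rw [Finset.card_insert_of_notMem (by simp [e1, e2]), Finset.card_insert_of_notMem (by simp [e3]),
      Finset.card_singleton]
  have h3S : Disjoint ({a, y, y'} : Finset G) Sf := by
    rw [Finset.disjoint_left]
    intro x hx hxS
    obtain ⟨h1, h2, h3⟩ := hall x hxS
    simp only [Finset.mem_insert, Finset.mem_singleton] at hx
    rcases hx with rfl | rfl | rfl
    exacts [h1.2.1 rfl, h2.2.1 rfl, h3.2.1 rfl]
  set Df := Finset.univ.filter (fun x => x ∈ D) with hDf
  have hDc : Df.card = 306936 := by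
    rw [← M24.ncard_class S h, Set.ncard_eq_toFinset_card']
    exact congrArg Finset.card (by ext; simp [hDf])
  set P := ({a, y, y'} : Finset G) ∪ Sf with hP
  have hPD : P ⊆ Df := by
    intro x hx
    simp only [hP, Finset.mem_union, Finset.mem_insert, Finset.mem_singleton, hSmem] at hx
    simp only [hDf, Finset.mem_filter, Finset.mem_univ, true_and]
    rcases hx with (rfl | rfl | rfl) | hx
    exacts [ha, hy, hy'D, hx.1.1]
  set R := Df \ P with hR
  have hRc : R.card = 303693 := by
    rw [hR, Finset.card_sdiff_of_subset hPD, hDc, hP, Finset.card_union_of_disjoint h3S, h3card, hS]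
  -- the two sums over all points
  have hsum : ∀ g : G → ℤ, ∑ x ∈ Df, g x =
      (∑ x ∈ ({a, y, y'} : Finset G), g x) + ∑ x ∈ Sf, g x + ∑ x ∈ R, g x := fun g => by
    rw [hR, ← Finset.sum_union h3S, ← hP, add_comm, Finset.sum_sdiff hPD]
  have hlink : ∀ w, (Df.filter fun x => x ∈ link D w).card = (link D w).ncard := fun w => by
    rw [Set.ncard_eq_toFinset_card']
    refine congrArg Finset.card (Finset.ext fun x => ?_)
    simp only [hDf, Finset.mem_filter, Finset.mem_univ, true_and, Set.mem_toFinset]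
    exact ⟨fun hx => hx.2, fun hx => ⟨hx.1, hx⟩⟩
  have hS1 : ∑ x ∈ Df, n x = 3240 * 31671 := by
    have h1 := Finset.sum_card_bipartiteAbove_eq_sum_card_bipartiteBelow (s := Df) (t := Sf)
      (fun x w => x ∈ link D w)
    simp only [Finset.bipartiteAbove, Finset.bipartiteBelow] at h1
    rw [show (∑ x ∈ Df, n x) = _ from h1, Finset.sum_congr rfl fun w hw =>
      (hlink w).trans (M24.ncard_link S h (hSmem.1 hw).1.1), Finset.sum_const, smul_eq_mul, hS]
  have hS2 : ∑ x ∈ Df, n x ^ 2 = 3240 * (31671 + 351 * 3510 + 2888 * 3240) := by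
    have h1 := Finset.sum_card_bipartiteAbove_eq_sum_card_bipartiteBelow (s := Df) (t := Sf ×ˢ Sf)
      (fun x (p : G × G) => x ∈ link D p.1 ∧ x ∈ link D p.2)
    simp only [Finset.bipartiteAbove, Finset.bipartiteBelow] at h1
    have h2 : ∀ x, n x ^ 2 =
        ((Sf ×ˢ Sf).filter fun p => x ∈ link D p.1 ∧ x ∈ link D p.2).card := fun x => by
      rw [Finset.filter_product (fun w => x ∈ link D w) (fun w => x ∈ link D w), Finset.card_product,
        pow_two]
    rw [Finset.sum_congr rfl fun x _ => h2 x, h1, Finset.sum_product]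
    have h3 : ∀ w ∈ Sf, ∑ v ∈ Sf, (Df.filter fun x => x ∈ link D w ∧ x ∈ link D v).card =
        31671 + 351 * 3510 + 2888 * 3240 := by
      intro w hw
      have hwD : w ∈ D := (hSmem.1 hw).1.1
      have hc : ∀ v, (Df.filter fun x => x ∈ link D w ∧ x ∈ link D v).card = (cn D w v).ncard :=
        fun v => by
          rw [Set.ncard_eq_toFinset_card']
          refine congrArg Finset.card (Finset.ext fun x => ?_)
          simp only [hDf, Finset.mem_filter, Finset.mem_univ, true_and, Set.mem_toFinset]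
          exact ⟨fun hx => hx.2, fun hx => ⟨hx.1.1, hx⟩⟩
      have hA : (Sf.filter fun v => v ∈ link D w).card = 351 := by
        rw [← ncard_cn_link S h ha hy hay (hSmem.1 hw), Set.ncard_eq_toFinset_card']
        exact congrArg Finset.card (by ext; simp [hSmem])
      have hB := Finset.card_filter_add_card_filter_not (s := Sf) (p := fun v => v ∈ link D w)
      rw [hS, hA] at hB
      rw [Finset.sum_congr rfl fun v _ => hc v,
        ← Finset.sum_filter_add_sum_filter_not Sf (fun v => v ∈ link D w),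
        Finset.sum_congr rfl fun v hv => ncard_cn_commuting S h hwD (Finset.mem_filter.1 hv).2,
        Finset.sum_const, smul_eq_mul, hA]
      have hwB : w ∈ Sf.filter fun v => ¬ v ∈ link D w :=
        Finset.mem_filter.2 ⟨hw, fun e => e.2.1 rfl⟩
      have hB2 : ∀ v ∈ (Sf.filter fun v => ¬ v ∈ link D w).erase w, (cn D w v).ncard = 3240 := by
        intro v hv
        have hv' := Finset.mem_filter.1 (Finset.mem_of_mem_erase hv)
        exact mu_of_typeM24 S h w hwD v (hSmem.1 hv'.1).1.1 fun hc' =>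
          hv'.2 ⟨(hSmem.1 hv'.1).1.1, Finset.ne_of_mem_erase hv, hc'⟩
      rw [← Finset.add_sum_erase _ _ hwB, Finset.sum_congr rfl hB2, Finset.sum_const,
        smul_eq_mul, Finset.card_erase_of_mem hwB, show cn D w w = link D w from Set.inter_self _,
        M24.ncard_link S h hwD]
      omega
    rw [Finset.sum_congr rfl h3, Finset.sum_const, smul_eq_mul, hS]
  -- the conjugates of z by common neighbours are bad points
  let f : G → ℤ := fun x => (n x : ℤ)
  have hf : ∀ x, f x = (n x : ℤ) := fun _ => rfl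
  have hzS : z ∉ cn D a y := fun hz' => haz hz'.1.2.2
  have hwz : ∀ w ∈ Sf, ¬ Commute w z := fun w hw => hbad w (hSmem.1 hw)
  have hzy : z ≠ y ∧ z ≠ y' := by
    obtain ⟨w, hw⟩ := Finset.card_pos.1 (by omega : 0 < Sf.card)
    exact ⟨fun e => hwz w hw (e ▸ (hall w hw).2.1.2.2), fun e => hwz w hw (e ▸ (hall w hw).2.2.2.2)⟩
  have hconjw : ∀ w ∈ Sf, ∀ x, x = a ∨ x = y ∨ x = y' → w * x * w⁻¹ = x := by
    intro w hw x hx
    obtain ⟨h1, h2, h3⟩ := hall w hw
    rcases hx with rfl | rfl | rfl
    exacts [conj_self_of_commute h1.2.2, conj_self_of_commute h2.2.2, conj_self_of_commute h3.2.2]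
  have hSconj : ∀ w ∈ Sf, ∀ v, w * v * w⁻¹ ∈ cn D a y ↔ v ∈ cn D a y := by
    intro w hw v
    have h1 := mem_cn_conj (x := v) (a := a) (b := y) S.cls w
    rwa [hconjw w hw a (Or.inl rfl), hconjw w hw y (Or.inr (Or.inl rfl))] at h1
  have hwinv : ∀ w ∈ Sf, w⁻¹ = w := fun w hw => inv_eq hset (hSmem.1 hw).1.1
  set O := Sf.image (fun w => w * z * w⁻¹) with hO
  have hOR : O ⊆ R := by
    intro x hx
    simp only [hO, Finset.mem_image] at hx
    obtain ⟨w, hw, rfl⟩ := hx
    simp only [hR, hDf, hP, Finset.mem_sdiff, Finset.mem_filter, Finset.mem_univ, true_and,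
      Finset.mem_union, Finset.mem_insert, Finset.mem_singleton, hSmem, hSconj w hw]
    refine ⟨CfsgLib.ThreeTransp.class_conj_mem S.cls w hz, ?_⟩
    rintro ((e | e | e) | e)
    · exact haz (by rw [mul_left_cancel (mul_right_cancel (e.trans (hconjw w hw a (Or.inl rfl)).symm))])
    · exact hzy.1 (mul_left_cancel (mul_right_cancel (e.trans (hconjw w hw y (Or.inr (Or.inl rfl))).symm)))
    · exact hzy.2 (mul_left_cancel (mul_right_cancel (e.trans (hconjw w hw y' (Or.inr (Or.inr rfl))).symm)))
    · exact hzS e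
  have hO0 : ∀ x ∈ O, f x = 0 := by
    intro x hx
    simp only [hO, Finset.mem_image] at hx
    obtain ⟨w, hw, rfl⟩ := hx
    rw [hf, Nat.cast_eq_zero]
    refine Finset.card_eq_zero.2 (Finset.filter_eq_empty_iff.2 fun v hv hm => ?_)
    have hv' : w * v * w⁻¹ ∈ Sf := hSmem.2 ((hSconj w hw v).2 (hSmem.1 hv))
    refine hwz _ hv' ?_
    have h1 := (commute_conj_iff' w v (w * z * w⁻¹)).2 hm.2.2
    have e : w * (w * z * w⁻¹) * w⁻¹ = z := by
      rw [hwinv w hw, show w * (w * z * w) * w = (w * w) * z * (w * w) by group,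
        mul_self hset (hSmem.1 hw).1.1, one_mul, mul_one]
    rwa [e] at h1
  have hOc : O.card = 3240 := by
    rw [hO, Finset.card_image_of_injOn, hS]
    intro w hw w' hw' e
    have e1 : ∀ v ∈ Sf, v * z * v⁻¹ = z * v * z⁻¹ := fun v hv => by
      rw [hwinv v hv, inv_eq hset hz]
      exact braid hset (hSmem.1 hv).1.1 hz (hwz v hv)
    simp only [e1 w hw, e1 w' hw'] at e
    exact mul_left_cancel (mul_right_cancel e)
  have hb := square_bound R O f hOR hO0
  rw [hOc] at hb
  have hexp : ∑ x ∈ R, (f x - 328) ^ 2 =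
      ∑ x ∈ R, f x ^ 2 - 656 * ∑ x ∈ R, f x + 107584 * (R.card : ℤ) := by
    simp only [sub_sq, Finset.sum_add_distrib, Finset.sum_sub_distrib, ← Finset.mul_sum,
      ← Finset.sum_mul, Finset.sum_const, nsmul_eq_mul]
    ring
  have hsplit1 := hsum f
  have hsplit2 := hsum fun x => f x ^ 2
  have a1 : ∑ x ∈ ({a, y, y'} : Finset G), f x = 9720 := by
    rw [Finset.sum_congr rfl fun x hx => show f x = 3240 by rw [hf, hn3 x hx]; rfl,
      Finset.sum_const, h3card]
    norm_num
  have a2 : ∑ x ∈ ({a, y, y'} : Finset G), f x ^ 2 = 31492800 := by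
    rw [Finset.sum_congr rfl fun x hx => show f x ^ 2 = 3240 ^ 2 by rw [hf, hn3 x hx]; rfl,
      Finset.sum_const, h3card]
    norm_num
  have b1 : ∑ x ∈ Sf, f x = 1137240 := by
    rw [Finset.sum_congr rfl fun x hx => show f x = 351 by rw [hf, hnS x hx]; rfl,
      Finset.sum_const, hS]
    norm_num
  have b2 : ∑ x ∈ Sf, f x ^ 2 = 399171240 := by
    rw [Finset.sum_congr rfl fun x hx => show f x ^ 2 = 351 ^ 2 by rw [hf, hnS x hx]; rfl,
      Finset.sum_const, hS]
    norm_num
  rw [a1, b1] at hsplit1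
  rw [a2, b2] at hsplit2
  have hc1 : ∑ x ∈ Df, f x = 102614040 := by
    have := congrArg (Nat.cast : ℕ → ℤ) hS1
    push_cast at this
    exact this.trans (by norm_num)
  have hc2 : ∑ x ∈ Df, f x ^ 2 = 34411395240 := by
    have := congrArg (Nat.cast : ℕ → ℤ) hS2
    push_cast at this
    exact this.trans (by norm_num)
  rw [hexp, hRc] at hb
  rw [hc1] at hsplit1
  rw [hc2] at hsplit2
  norm_num at hsplit1 hsplit2 hb
  omega

end CfsgLib.FischerM24Unique
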