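import Cfsg.Agent.Lib.FischerM24Unique.Match
import Cfsg.Agent.Lib.FischerM24Unique.Pair
import Cfsg.Agent.Lib.FischerM24Unique.Triple
import Cfsg.Agent.Lib.FischerTriple.Parity

set_option autoImplicit false

/-! Groups of type M(24) with isomorphic link images are isomorphic. -/

namespace CfsgLib.FischerM24Unique

open Subgroup
open CfsgLib.ThreeTrans (link commute_conj_iff' conj_self_of_commute mul_self inv_eq)
open CfsgLib.FischerType CfsgLib.FischerPairCent CfsgLib.FischerOrder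

variable {G : Type*} [Group G] [Finite G] {D : Set G} {G' : Type*} [Group G'] [Finite G']
  {D' : Set G'} (S : Setting D) (h : Cfsg.IsOfTypeM24 G D) (S' : Setting D')
  (h' : Cfsg.IsOfTypeM24 G' D')

include S h S' h'

/-- One isomorphism of link images gives lifts between any two members. -/
theorem hubs {d : G} {d' : G'} (hd : d ∈ D) (hd' : d' ∈ D') (e : Quot D d ≃* Quot D' d')
    (he : e '' img D d = img D' d') {t : G} {t' : G'} (ht : t ∈ D) (ht' : t' ∈ D') :
    ∃ ψ, Lift D D' t t' ψ := by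
  obtain ⟨d₀, hd₀, h3, h2⟩ := CfsgLib.FischerM24.pCore_link_le_of_typeM24 S h
  obtain ⟨d₀', hd₀', h3', h2'⟩ := CfsgLib.FischerM24.pCore_link_le_of_typeM24 S' h'
  obtain ⟨φ, hφ⟩ := CfsgLib.FischerTriple.exists_parity_of_typeM24 S h hd₀ h3 h2
  obtain ⟨φ', hφ'⟩ := CfsgLib.FischerTriple.exists_parity_of_typeM24 S' h' hd₀' h3' h2'
  obtain ⟨u, hu⟩ : (link D d).Nonempty := Set.nonempty_of_ncard_ne_zero (by
    rw [M24.ncard_link S h hd]; norm_num)
  obtain ⟨u', hu'⟩ : (link D' d').Nonempty := Set.nonempty_of_ncard_ne_zero (by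
    rw [M24.ncard_link S' h' hd']; norm_num)
  obtain ⟨f, hf⟩ := exists_lift S.cls.1 S'.cls.1 hd hd' (M24.centralizer_eq S h hd)
    (M24.centralizer_eq S' h' hd')
    (fun z hz => CfsgLib.FischerUnique.center_link_le S (S.good_of_typeM24 h hd₀ h3 h2).lines hd hu hz)
    (fun z hz =>
      CfsgLib.FischerUnique.center_link_le S' (S'.good_of_typeM24 h' hd₀' h3' h2').lines hd' hu' hz)
    φ hφ φ' hφ' e he
  obtain ⟨k, hk⟩ := CfsgLib.ThreeTransp.class_conj S'.cls hd' ht'
  obtain ⟨g, hg⟩ := CfsgLib.ThreeTransp.class_conj S.cls ht hd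
  have L := hf.conjLeft S'.cls k
  rw [hk, ← hg] at L
  exact ⟨_, L.conjRight S.cls⟩

variable {a : G} {a' : G'} {f : G → G'} (L : Lift D D' a a' f) (ha : a ∈ D) (ha' : a' ∈ D')
  (hB : ∀ t ∈ D, ∀ t' ∈ D', ∃ ψ, Lift D D' t t' ψ)

include L ha ha' hB

/-- Around one common neighbour the other member has an image. -/
theorem exists_local_image {c w : G} (hc : c ∈ D) (hac : ¬ Commute a c) (hw : w ∈ cn D a c) :
    ∃ e ∈ D', ¬ Commute a' e ∧ f w ∈ cn D' a' e ∧
      ∀ x ∈ cn D a w, (Commute (f x) e ↔ Commute x c) := by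
  obtain ⟨ψ, Lψ, hψa, hψ⟩ := exists_matched S h S' h' hB L ha ha' hw.1
  have hcw : c ∈ link D w := link_symm hc hw.2
  have hca : ¬ Commute a' (ψ c) := by
    rw [← hψa, Lψ.commute_iff hw.1.2.2 hcw.2.2.symm]; exact hac
  have hl := Lψ.link_mem hcw
  refine ⟨ψ c, hl.1, hca, ⟨L.link_mem hw.1, link_symm (L.link_mem hw.1).1 hl⟩, fun x hx => ?_⟩
  rw [← hψ x hx, Lψ.commute_iff hx.2.2.2.symm hcw.2.2.symm]

/-- The common neighbours of `a` and `c` go onto those of `a'` and some member. -/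
theorem exists_pair_image {c : G} (hc : c ∈ D) (hac : ¬ Commute a c) :
    ∃ c' ∈ D', ¬ Commute a' c' ∧ f '' cn D a c = cn D' a' c' := by
  classical
  have hex : ∀ w, ∃ e, w ∈ cn D a c → e ∈ D' ∧ ¬ Commute a' e ∧ f w ∈ cn D' a' e ∧
      ∀ x ∈ cn D a w, (Commute (f x) e ↔ Commute x c) := fun w => by
    by_cases hw : w ∈ cn D a c
    · obtain ⟨e, h1, h2, h3, h4⟩ := exists_local_image S h S' h' L ha ha' hB hc hac hw
      exact ⟨e, fun _ => ⟨h1, h2, h3, h4⟩⟩
    · exact ⟨a', fun h0 => absurd h0 hw⟩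
  choose p hp using hex
  have hmem : ∀ {w y}, w ∈ cn D a c → y ∈ cn D a c → y ∈ link D w → f y ∈ cn D' a' (p w) := by
    intro w y hw hy hyw
    obtain ⟨hpD, hpa, -, hiff⟩ := hp w hw
    exact ⟨L.link_mem hy.1, (L.link_mem hy.1).1,
      fun e => hpa (e ▸ (L.link_mem hy.1).2.2), ((hiff y ⟨hy.1, hyw⟩).2 hy.2.2.2.symm).symm⟩
  -- adjacent common neighbours
  have hadj : ∀ {w y}, w ∈ cn D a c → y ∈ cn D a c → y ∈ link D w →
      cn D' a' (p y) = cn D' a' (p w) := by
    intro w y hw hy hyw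
    obtain ⟨hpD, hpa, hpw, hiw⟩ := hp w hw
    obtain ⟨hqD, hqa, hqy, hiy⟩ := hp y hy
    have hwy : w ∈ link D y := link_symm hw.1.1 hyw
    have hm := hmem hw hy hyw
    rcases lineTwo_of_typeM24 S' h' a' ha' (p w) hpD (p y) hqD hpa hqa (f w) hpw (f y) hm
      ((L.link_link_iff hw.1 hy.1).2 hyw) ((hmem hy hw hwy).2.2.2.symm) hqy.2.2.2.symm
      (fun x hx hxw hxy => by
        obtain ⟨z, hz, rfl⟩ := L.exists_link hx.1
        have hza := hz.2.2.symm
        by_cases e : z = y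
        · subst e; exact hqy.2.2.2.symm
        have hzy : z ∈ cn D a y :=
          ⟨hz, hz.1, e, ((L.commute_iff hza hy.1.2.2.symm).1 hxy).symm⟩
        refine (hiy z hzy).2 ?_
        by_cases e' : z = w
        · subst e'; exact hw.2.2.2.symm
        exact (hiw z ⟨hz, hz.1, e', ((L.commute_iff hza hw.1.2.2.symm).1 hxw).symm⟩).1
          hx.2.2.2.symm) with e | e
    · rw [e]
    · rw [e, cn_pair_eq S'.cls]
  have hcomp : ∀ {w x}, w ∈ cn D a c → x ∈ comp D a c w →
      cn D' a' (p x) = cn D' a' (p w) ∧ f x ∈ cn D' a' (p w) := by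
    intro w x hw hx
    have e : cn D' a' (p x) = cn D' a' (p w) := by
      change Relation.ReflTransGen _ w x at hx
      induction hx with
      | refl => rfl
      | tail _ h ih => rw [hadj h.1 h.2.1 h.2.2, ih]
    exact ⟨e, e ▸ (hp x (mem_of_comp hw hx)).2.2.1⟩
  -- the simple part goes into every image
  obtain ⟨P⟩ := nonempty_pairMap S h ha hc hac
  have hWa : ∀ {x}, x ∈ closure (cn D a c) → Commute x a := fun {x} hx => by
    have hle : closure (cn D a c) ≤ centralizer {a} :=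
      (closure_le _).2 fun y hy => mem_centralizer_singleton_iff.2 hy.1.2.2.symm.eq
    exact mem_centralizer_singleton_iff.1 (hle hx)
  let ι : ↥P.π.ker →* G' := MonoidHom.mk' (fun k => f k) fun x y =>
    L.map_mul _ _ (hWa x.1.2) (hWa y.1.2)
  have hι : Function.Injective ι := fun x y e =>
    Subtype.ext (Subtype.ext (L.inj _ _ (hWa x.1.2) (hWa y.1.2) e))
  have hι_le : ∀ {w}, w ∈ cn D a c → ∀ k, ι k ∈ closure (cn D' a' (p w)) := by
    intro w hw k
    have hk : ((k : ↥(closure (cn D a c))) : G) ∈ closure (comp D a c w) :=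
      P.ker_le_comp S h ha hc hac hw ⟨k.1, k.2, rfl⟩
    have key : ∀ z ∈ closure (comp D a c w), Commute z a ∧ f z ∈ closure (cn D' a' (p w)) := by
      intro z hz
      induction hz using closure_induction with
      | mem z hz => exact ⟨(mem_of_comp hw hz).1.2.2.symm, subset_closure (hcomp hw hz).2⟩
      | one => exact ⟨Commute.one_left a, by rw [L.map_one]; exact one_mem _⟩
      | mul y z _ _ ihy ihz =>
        exact ⟨ihy.1.mul_left ihz.1, by rw [L.map_mul _ _ ihy.1 ihz.1]; exact mul_mem ihy.2 ihz.2⟩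
      | inv y _ ih => exact ⟨ih.1.inv_left, by rw [L.map_inv ih.1]; exact inv_mem ih.2⟩
    exact (key _ hk).2
  haveI := P.simple
  have hrange : ∀ {w}, w ∈ cn D a c → ∀ (P' : PairMap D' a' (p w))
      (k' : ↥(closure (cn D' a' (p w)))), k' ∈ P'.π.ker → ∃ k, ι k = k' := by
    intro w hw P' k' hk'
    let κ : ↥P.π.ker →* Equiv.Perm (Fin 3) := P'.π.comp (ι.codRestrict _ (hι_le hw))
    have hκ : κ.ker = ⊤ := by
      refine (Subgroup.Normal.eq_bot_or_eq_top (inferInstance : κ.ker.Normal)).resolve_left fun h0 => ?_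
      have h1 := Nat.card_le_card_of_injective κ ((MonoidHom.ker_eq_bot_iff κ).1 h0)
      rw [P.card, Nat.card_perm, Nat.card_fin] at h1
      norm_num [Nat.factorial] at h1
    let κ' : ↥P.π.ker →* ↥P'.π.ker := (ι.codRestrict _ (hι_le hw)).codRestrict _ fun k =>
      MonoidHom.mem_ker.2 (MonoidHom.mem_ker.1 (hκ ▸ mem_top k : k ∈ κ.ker))
    have hbij : Function.Bijective κ' := (Nat.bijective_iff_injective_and_card κ').2
      ⟨fun x y e => hι (congrArg (fun z : ↥P'.π.ker => ((z : ↥(closure (cn D' a' (p w)))) : G')) e),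
        by rw [P.card, P'.card]⟩
    obtain ⟨k, hk⟩ := hbij.2 ⟨k', hk'⟩
    exact ⟨k, congrArg (fun z : ↥P'.π.ker => ((z : ↥(closure (cn D' a' (p w)))) : G')) hk⟩
  have hcent : ∀ {w}, w ∈ cn D a c → ∀ k, Commute (ι k) a' ∧ Commute (ι k) (p w) := fun {w} hw k =>
    mem_centralizer_pair.1 (((closure_le _).2 (cn_subset_centralizer a' (p w))) (hι_le hw k))
  -- all images agree
  have hall : ∀ {w u}, w ∈ cn D a c → u ∈ cn D a c → cn D' a' (p u) = cn D' a' (p w) := by
    intro w u hw hu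
    obtain ⟨hpD, hpa, -, -⟩ := hp w hw
    obtain ⟨hqD, hqa, -, -⟩ := hp u hu
    obtain ⟨v, hv, hvu⟩ := exists_common_triple S' h' ha' hpD hqD hpa hqa
    obtain ⟨P'⟩ := nonempty_pairMap S' h' ha' hpD hpa
    rcases lineOne_of_typeM24 S' h' a' ha' (p w) hpD (p u) hqD hpa hqa v hv hvu (fun x hx hxv => by
      obtain ⟨k', hk', he⟩ := P'.exists_ker_conj S' (pairs_eight S' h' a' ha' (p w) hpD hpa) hx hv hxv
      obtain ⟨k, hk⟩ := hrange hw P' k' hk'
      have h1 : Commute ((k' : G') * v * (k' : G')⁻¹) ((k' : G') * p u * (k' : G')⁻¹) :=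
        (commute_conj_iff' _ _ _).2 hvu
      rw [he, ← hk, conj_self_of_commute (hcent hu k).2] at h1
      exact h1) with e | e
    · rw [e]
    · rw [e, cn_pair_eq S'.cls]
  obtain ⟨w₀, hw₀⟩ : (cn D a c).Nonempty := Set.nonempty_of_ncard_ne_zero (by
    rw [mu_of_typeM24 S h a ha c hc hac]; norm_num)
  obtain ⟨hpD, hpa, -, -⟩ := hp w₀ hw₀
  refine ⟨p w₀, hpD, hpa, Set.eq_of_subset_of_ncard_le ?_ (le_of_eq ?_) (Set.toFinite _)⟩
  · rintro _ ⟨x, hx, rfl⟩
    exact hall hw₀ hx ▸ (hp x hx).2.2.1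
  · rw [mu_of_typeM24 S' h' a' ha' _ hpD hpa, Set.InjOn.ncard_image (fun x hx y hy e =>
      L.inj x y hx.1.2.2.symm hy.1.2.2.symm e), mu_of_typeM24 S h a ha c hc hac]

/-- The map on the members not commuting with `a`. -/
theorem exists_outer : ∃ g : G → G',
    (∀ y ∈ D, ¬ Commute a y → g y ∈ D' ∧ ¬ Commute a' (g y)) ∧
    (∀ k y, Commute k a → y ∈ D → ¬ Commute a y → g (k * y * k⁻¹) = f k * g y * (f k)⁻¹) ∧
    (∀ x ∈ link D a, ∀ y ∈ D, ¬ Commute a y → (Commute (f x) (g y) ↔ Commute x y)) := by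
  classical
  obtain ⟨c, hc, hac, -⟩ : ∃ c ∈ D, ¬ Commute a c ∧ True := by
    by_contra! hno
    have h0 : {y | y ∈ D ∧ ¬ Commute a y} = ∅ := Set.eq_empty_iff_forall_notMem.2 fun y hy =>
      by simpa using hno y hy.1 hy.2
    have h1 := M24.ncard_noncommuting S h ha
    rw [h0, Set.ncard_empty] at h1
    omega
  obtain ⟨c', hc', hac', himg⟩ := exists_pair_image S h S' h' L ha ha' hB hc hac
  have hd := pairs_eight S h a ha c hc hac
  have hex : ∀ y, ∃ k, y ∈ D → ¬ Commute a y → Commute k a ∧ k * c * k⁻¹ = y := fun y => by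
    by_cases hy : y ∈ D ∧ ¬ Commute a y
    · obtain ⟨k, hk⟩ := M24.exists_conj_noncommuting S h ha hc hy.1 hac hy.2
      exact ⟨k, fun _ _ => hk⟩
    · exact ⟨1, fun h1 h2 => absurd ⟨h1, h2⟩ hy⟩
  choose K hK using hex
  let g : G → G' := fun y => f (K y) * c' * (f (K y))⁻¹
  have hcan : ∀ k, Commute k a → g (k * c * k⁻¹) = f k * c' * (f k)⁻¹ := by
    intro k hk
    have hy : k * c * k⁻¹ ∈ D := CfsgLib.ThreeTransp.class_conj_mem S.cls k hc
    have hay : ¬ Commute a (k * c * k⁻¹) := fun h1 => hac (by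
      rw [← conj_self_of_commute hk] at h1
      exact (commute_conj_iff' k a c).1 h1)
    obtain ⟨hKa, hKy⟩ := hK _ hy hay
    set l := K (k * c * k⁻¹) with hl
    have hj : Commute (k⁻¹ * l) a := hk.inv_left.mul_left hKa
    have hjc : Commute (k⁻¹ * l) c := by
      refine mul_inv_eq_iff_eq_mul.1 ?_
      rw [show k⁻¹ * l * c * (k⁻¹ * l)⁻¹ = k⁻¹ * (l * c * l⁻¹) * k by group, hKy]
      group
    have hjW := hd.le _ hj hjc
    have key : ∀ z ∈ closure (cn D a c), Commute z a ∧ Commute (f z) c' := by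
      intro z hz
      induction hz using closure_induction with
      | mem z hz => exact ⟨hz.1.2.2.symm, (himg.le ⟨z, hz, rfl⟩).2.2.2.symm⟩
      | one => exact ⟨Commute.one_left a, by rw [L.map_one]; exact Commute.one_left _⟩
      | mul y z _ _ ihy ihz =>
        exact ⟨ihy.1.mul_left ihz.1, by rw [L.map_mul _ _ ihy.1 ihz.1]; exact ihy.2.mul_left ihz.2⟩
      | inv y _ ih => exact ⟨ih.1.inv_left, by rw [L.map_inv ih.1]; exact ih.2.inv_left⟩
    have h1 := (key _ hjW).2
    rw [L.map_mul _ _ hk.inv_left hKa, L.map_inv hk] at h1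
    show f l * c' * (f l)⁻¹ = _
    calc f l * c' * (f l)⁻¹
        = f k * ((f k)⁻¹ * f l * c' * ((f k)⁻¹ * f l)⁻¹) * (f k)⁻¹ := by group
      _ = f k * c' * (f k)⁻¹ := by rw [conj_self_of_commute h1]
  refine ⟨g, fun y hy hay => ?_, fun k y hk hy hay => ?_, fun x hx y hy hay => ?_⟩
  · obtain ⟨hKa, -⟩ := hK y hy hay
    refine ⟨CfsgLib.ThreeTransp.class_conj_mem S'.cls _ hc', fun h1 => hac' ?_⟩
    rw [← conj_self_of_commute (L.mem _ hKa)] at h1
    exact (commute_conj_iff' (f (K y)) a' c').1 h1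
  · obtain ⟨hKa, hKy⟩ := hK y hy hay
    have e : k * y * k⁻¹ = k * K y * c * (k * K y)⁻¹ := by
      rw [show k * y * k⁻¹ = k * (K y * c * (K y)⁻¹) * k⁻¹ by rw [hKy]]
      group
    rw [e, hcan _ (hk.mul_left hKa), L.map_mul _ _ hk hKa]
    show _ = f k * (f (K y) * c' * (f (K y))⁻¹) * (f k)⁻¹
    group
  · obtain ⟨hKa, hKy⟩ := hK y hy hay
    set k := K y
    set z := k⁻¹ * x * k with hz
    have hzl : z ∈ link D a := by
      rw [← mem_link_conj S.cls k, hz, conj_self_of_commute hKa]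
      simpa [mul_assoc] using hx
    have ex : x = k * z * k⁻¹ := by rw [hz]; group
    have e1 : f x = f k * f z * (f k)⁻¹ := by rw [ex, L.map_conj hKa hzl.2.2.symm]
    show Commute (f x) (f k * c' * (f k)⁻¹) ↔ _
    rw [e1, commute_conj_iff']
    conv_rhs => rw [ex, ← hKy, commute_conj_iff']
    constructor
    · intro h1
      have h2 : f z ∈ cn D' a' c' := ⟨L.link_mem hzl, (L.link_mem hzl).1,
        fun e => hac' (e ▸ (L.link_mem hzl).2.2), h1.symm⟩
      obtain ⟨z₀, hz₀, e0⟩ := himg.ge h2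
      rw [← L.inj _ _ hz₀.1.2.2.symm hzl.2.2.symm e0]
      exact hz₀.2.2.2.symm
    · intro h1
      exact (himg.le ⟨z, ⟨hzl, hzl.1, fun e => hac (e ▸ hzl.2.2), h1.symm⟩, rfl⟩).2.2.2.symm

/-- A bijection of the members respecting commutation. -/
theorem exists_graph_map : ∃ Ψ : G → G', Set.BijOn Ψ D D' ∧
    ∀ x ∈ D, ∀ y ∈ D, (Commute (Ψ x) (Ψ y) ↔ Commute x y) := by
  classical
  obtain ⟨g, hgD, hgk, hS⟩ := exists_outer S h S' h' L ha ha' hB
  have hain : ∀ {x}, x ∈ D → Commute x a → x = a ∨ x ∈ link D a := fun {x} hx hxa =>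
    (eq_or_ne x a).imp id fun e => ⟨hx, e, hxa.symm⟩
  let Ψ : G → G' := fun x => if Commute x a then f x else g x
  have hΨ1 : ∀ {x}, Commute x a → Ψ x = f x := fun {x} hx => if_pos hx
  have hΨ2 : ∀ {x}, ¬ Commute a x → Ψ x = g x := fun {x} hx => if_neg fun e => hx e.symm
  have hinj2 : ∀ y ∈ D, ¬ Commute a y → ∀ z ∈ D, ¬ Commute a z → g y = g z → y = z := by
    intro y hy hay z hz haz e
    rcases lineZero_of_typeM24 S h a ha y hy z hz hay haz (fun x hx =>
      (hS x hx.1 z hz haz).1 (e ▸ (hS x hx.1 y hy hay).2 hx.2.2.2.symm)) with e1 | e1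
    · exact e1.symm
    · exfalso
      have h1 := hgk a y (Commute.refl a) hy hay
      rw [← e1, ← e, L.map_self] at h1
      exact (hgD y hy hay).2 (mul_inv_eq_iff_eq_mul.1 h1.symm)
  have hmix : ∀ x ∈ D, Commute x a → ∀ y ∈ D, ¬ Commute a y →
      (Commute (f x) (g y) ↔ Commute x y) := by
    intro x hx hxa y hy hay
    rcases hain hx hxa with rfl | hl
    · rw [L.map_self]; exact iff_of_false (hgD y hy hay).2 hay
    · exact hS x hl y hy hay
  have hout : ∀ y ∈ D, ¬ Commute a y → ∀ z ∈ D, ¬ Commute a z →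
      (Commute (g y) (g z) ↔ Commute y z) := by
    intro y hy hay z hz haz
    obtain ⟨w, hw, hwz⟩ := exists_common_triple S h ha hy hz hay haz
    obtain ⟨ψ, Lψ, hψa, hψ⟩ := exists_matched S h S' h' hB L ha ha' hw.1
    have hyw := link_symm hy hw.2
    have hzw : z ∈ link D w := ⟨hz, fun e => haz (e ▸ hw.1.2.2), hwz⟩
    have haw := link_symm ha hw.1
    have hψy : ∃ ε : G', Commute ε a' ∧ (∀ k, Commute k a → k ∈ closure (cn D a w) → Commute ε (f k)) ∧
        ψ y = ε * g y * ε⁻¹ := by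
      obtain ⟨hgyD, hgya⟩ := hgD y hy hay
      have hfw := L.link_mem hw.1
      have hwn : f w ∈ cn D' a' (g y) := ⟨hfw, hfw.1, fun e => hgya (e ▸ hfw.2.2),
        ((hS w hw.1 y hy hay).2 hw.2.2.2.symm).symm⟩
      have hψyl := Lψ.link_mem hyw
      have hψya : ¬ Commute a' (ψ y) := by
        rw [← hψa, Lψ.commute_iff haw.2.2.symm hyw.2.2.symm]; exact hay
      rcases lineOne_of_typeM24 S' h' a' ha' (g y) hgyD (ψ y) hψyl.1 hgya hψya (f w) hwn
        hψyl.2.2 (fun x hx hxw => by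
          obtain ⟨u, hu, rfl⟩ := L.exists_link hx.1
          by_cases e : u = w
          · subst e; exact hψyl.2.2
          have huw : u ∈ cn D a w :=
            ⟨hu, hu.1, e, ((L.commute_iff hu.2.2.symm hw.1.2.2.symm).1 hxw).symm⟩
          rw [← hψ u huw, Lψ.commute_iff huw.2.2.2.symm hyw.2.2.symm]
          exact (hS u hu y hy hay).1 hx.2.2.2.symm) with e | e
      · exact ⟨1, Commute.one_left _, fun k _ _ => Commute.one_left _, by rw [e]; group⟩
      · exact ⟨a', Commute.refl _, fun k hk _ => (L.mem k hk).symm, e⟩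
    obtain ⟨ε, hεa, hεk, hε⟩ := hψy
    obtain ⟨j, hj, hjz⟩ := exists_cn_conj S h hw.1.1 haw hyw hzw hay haz
    obtain ⟨hja, hjw⟩ := commute_of_mem_closure_cn hj
    have hfψ : ψ j = f j := by
      have key : ∀ u ∈ closure (cn D a w), ψ u = f u ∧ Commute u a ∧ Commute u w := by
        intro u hu
        refine ⟨?_, commute_of_mem_closure_cn hu⟩
        induction hu using closure_induction with
        | mem u hu => exact hψ u hu
        | one => rw [Lψ.map_one, L.map_one]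
        | mul u v hu hv ihu ihv =>
          rw [Lψ.map_mul _ _ (commute_of_mem_closure_cn hu).2 (commute_of_mem_closure_cn hv).2,
            L.map_mul _ _ (commute_of_mem_closure_cn hu).1 (commute_of_mem_closure_cn hv).1, ihu, ihv]
        | inv u hu ih =>
          rw [Lψ.map_inv (commute_of_mem_closure_cn hu).2, L.map_inv (commute_of_mem_closure_cn hu).1, ih]
      exact (key j hj).1
    have hψz : ψ z = ε * g z * ε⁻¹ := by
      rw [← hjz, Lψ.map_conj hjw hyw.2.2.symm, hfψ, hgk j y hja hy hay, hε]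
      have he := (hεk j hja hj).eq
      calc f j * (ε * g y * ε⁻¹) * (f j)⁻¹ = (f j * ε) * g y * (f j * ε)⁻¹ := by group
        _ = (ε * f j) * g y * (ε * f j)⁻¹ := by rw [he]
        _ = ε * (f j * g y * (f j)⁻¹) * ε⁻¹ := by group
    rw [← commute_conj_iff' ε (g y) (g z), ← hε, ← hψz, Lψ.commute_iff hyw.2.2.symm hzw.2.2.symm]
  refine ⟨Ψ, ⟨?_, ?_, ?_⟩, fun x hx y hy => ?_⟩
  · intro x hx
    by_cases hxa : Commute x a
    · rw [hΨ1 hxa]
      rcases hain hx hxa with rfl | hl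
      · rwa [L.map_self]
      · exact (L.link_mem hl).1
    · rw [hΨ2 fun e => hxa e.symm]; exact (hgD x hx fun e => hxa e.symm).1
  · intro x hx y hy e
    by_cases hxa : Commute a x <;> by_cases hya : Commute a y
    · rw [hΨ1 hxa.symm, hΨ1 hya.symm] at e
      exact L.inj x y hxa.symm hya.symm e
    · rw [hΨ1 hxa.symm, hΨ2 hya] at e
      exact absurd (e ▸ (L.mem x hxa.symm).symm) (hgD y hy hya).2
    · rw [hΨ2 hxa, hΨ1 hya.symm] at e
      exact absurd (e ▸ (L.mem y hya.symm).symm) (hgD x hx hxa).2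
    · rw [hΨ2 hxa, hΨ2 hya] at e
      exact hinj2 x hx hxa y hy hya e
  · intro q hq
    by_cases hqa : Commute q a'
    · rcases eq_or_ne q a' with rfl | hne
      · exact ⟨a, ha, by rw [hΨ1 (Commute.refl a), L.map_self]⟩
      · obtain ⟨x, hx, rfl⟩ := L.exists_link (y := q) ⟨hq, hne, hqa.symm⟩
        exact ⟨x, hx.1, hΨ1 hx.2.2.symm⟩
    · have himg : g '' {y | y ∈ D ∧ ¬ Commute a y} = {y | y ∈ D' ∧ ¬ Commute a' y} := by
        refine Set.eq_of_subset_of_ncard_le ?_ (le_of_eq ?_) (Set.toFinite _)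
        · rintro _ ⟨y, ⟨hy, hay⟩, rfl⟩; exact hgD y hy hay
        · rw [M24.ncard_noncommuting S' h' ha', Set.InjOn.ncard_image (fun y hy z hz e =>
            hinj2 y hy.1 hy.2 z hz.1 hz.2 e), M24.ncard_noncommuting S h ha]
      obtain ⟨y, ⟨hy, hay⟩, e⟩ := himg.ge ⟨hq, fun e => hqa e.symm⟩
      exact ⟨y, hy, (hΨ2 hay).trans e⟩
  · by_cases hxa : Commute a x <;> by_cases hya : Commute a y
    · rw [hΨ1 hxa.symm, hΨ1 hya.symm, L.commute_iff hxa.symm hya.symm]
    · rw [hΨ1 hxa.symm, hΨ2 hya]; exact hmix x hx hxa.symm y hy hya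
    · rw [hΨ2 hxa, hΨ1 hya.symm]
      exact ⟨fun e => ((hmix y hy hya.symm x hx hxa).1 e.symm).symm,
        fun e => ((hmix y hy hya.symm x hx hxa).2 e.symm).symm⟩
    · rw [hΨ2 hxa, hΨ2 hya]; exact hout x hx hxa y hy hya

omit L ha ha' hB

/-- A bijection respecting commutation comes from an isomorphism. -/
theorem exists_equiv_of_graph {Ψ : G → G'} (hb : Set.BijOn Ψ D D')
    (hiff : ∀ x ∈ D, ∀ y ∈ D, (Commute (Ψ x) (Ψ y) ↔ Commute x y)) :
    ∃ e : G ≃* G', e '' D = D' := by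
  have hset := S.cls.1
  have hcm := fun (g : G) {x : G} (hx : x ∈ D) => CfsgLib.ThreeTransp.class_conj_mem S.cls g hx
  have hconj : ∀ x ∈ D, ∀ y ∈ D, Ψ (x * y * x⁻¹) = Ψ x * Ψ y * (Ψ x)⁻¹ := by
    intro x hx y hy
    by_cases hxy : Commute x y
    · rw [conj_self_of_commute hxy, conj_self_of_commute ((hiff x hx y hy).2 hxy)]
    have hz := hcm x hy
    have hxz : ¬ Commute x (x * y * x⁻¹) := fun e => hxy (by
      have e' : Commute (x * x * x⁻¹) (x * y * x⁻¹) := by simpa using e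
      exact (commute_conj_iff' x x y).1 e')
    refine (lineZero_of_typeM24 S' h' (Ψ x) (hb.mapsTo hx) (Ψ y) (hb.mapsTo hy) _ (hb.mapsTo hz)
      (fun e => hxy ((hiff x hx y hy).1 e)) (fun e => hxz ((hiff x hx _ hz).1 e))
      fun q hq => ?_).resolve_left fun e => hxy ?_
    · obtain ⟨u, hu, rfl⟩ := hb.surjOn hq.1.1
      have hux : Commute u x := (hiff u hu x hx).1 hq.1.2.2.symm
      have huy : Commute u y := (hiff u hu y hy).1 hq.2.2.2.symm
      exact (hiff u hu _ hz).2 ((hux.mul_right huy).mul_right hux.inv_right)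
    · exact mul_inv_eq_iff_eq_mul.1 (hb.injOn hz hy e)
  have hgen := (CfsgLib.ThreeTransp.class_to_group S.cls).2.2
  have hgen' := (CfsgLib.ThreeTransp.class_to_group S'.cls).2.2
  set K : Subgroup (G × G') := closure {p | p.1 ∈ D ∧ p.2 = Ψ p.1} with hK
  have hact : ∀ p ∈ K, ∀ x ∈ D, Ψ (p.1 * x * p.1⁻¹) = p.2 * Ψ x * p.2⁻¹ := by
    intro p hp
    induction hp using closure_induction with
    | mem p hp => intro x hx; rw [hp.2]; exact hconj p.1 hp.1 x hx
    | one => intro x _; simp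
    | mul p q _ _ ihp ihq =>
      intro x hx
      rw [Prod.fst_mul, Prod.snd_mul, show p.1 * q.1 * x * (p.1 * q.1)⁻¹ =
        p.1 * (q.1 * x * q.1⁻¹) * p.1⁻¹ by group, ihp _ (hcm q.1 hx), ihq x hx]
      group
    | inv p _ ih =>
      intro x hx
      have h1 := ih (p.1⁻¹ * x * p.1⁻¹⁻¹) (hcm _ hx)
      rw [show p.1 * (p.1⁻¹ * x * p.1⁻¹⁻¹) * p.1⁻¹ = x by group] at h1
      show Ψ (p.1⁻¹ * x * p.1⁻¹⁻¹) = p.2⁻¹ * Ψ x * p.2⁻¹⁻¹
      rw [h1]; group
  have hfst : Function.Surjective ((MonoidHom.fst G G').comp K.subtype) := by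
    rw [← MonoidHom.range_eq_top, MonoidHom.range_comp, range_subtype, hK, MonoidHom.map_closure,
      eq_top_iff, ← hgen]
    exact closure_mono fun x hx => ⟨(x, Ψ x), ⟨hx, rfl⟩, rfl⟩
  have hsnd : Function.Surjective ((MonoidHom.snd G G').comp K.subtype) := by
    rw [← MonoidHom.range_eq_top, MonoidHom.range_comp, range_subtype, hK, MonoidHom.map_closure,
      eq_top_iff, ← hgen']
    refine closure_mono fun x hx => ?_
    obtain ⟨u, hu, rfl⟩ := hb.surjOn hx
    exact ⟨(u, Ψ u), ⟨hu, rfl⟩, rfl⟩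
  have hfi : Function.Injective ((MonoidHom.fst G G').comp K.subtype) := by
    refine (injective_iff_map_eq_one _).2 fun p hp => ?_
    have hp1 : p.1.1 = 1 := hp
    have hz : p.1.2 ∈ center G' := by
      refine mem_center_iff.2 fun y => ?_
      have hy : y ∈ centralizer ({p.1.2} : Set G') := by
        refine (closure_le _).2 (fun q hq => ?_) (hgen' ▸ mem_top y)
        obtain ⟨u, hu, rfl⟩ := hb.surjOn hq
        have h1 := hact p.1 p.2 u hu
        rw [hp1, one_mul, inv_one, mul_one] at h1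
        exact mem_centralizer_singleton_iff.2 (mul_inv_eq_iff_eq_mul.1 h1.symm).symm
      exact mem_centralizer_singleton_iff.1 hy
    rw [S'.center_bot, mem_bot] at hz
    exact Subtype.ext (Prod.ext hp1 hz)
  have hsi : Function.Injective ((MonoidHom.snd G G').comp K.subtype) := by
    refine (injective_iff_map_eq_one _).2 fun p hp => ?_
    have hp2 : p.1.2 = 1 := hp
    have hz : p.1.1 ∈ center G := by
      refine mem_center_iff.2 fun y => ?_
      have hy : y ∈ centralizer ({p.1.1} : Set G) := by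
        refine (closure_le _).2 (fun q hq => ?_) (hgen ▸ mem_top y)
        have h1 := hact p.1 p.2 q hq
        rw [hp2, one_mul, inv_one, mul_one] at h1
        exact mem_centralizer_singleton_iff.2
          (mul_inv_eq_iff_eq_mul.1 (hb.injOn (hcm _ hq) hq h1)).symm
      exact mem_centralizer_singleton_iff.1 hy
    rw [S.center_bot, mem_bot] at hz
    exact Subtype.ext (Prod.ext hz hp2)
  let e := (MulEquiv.ofBijective _ ⟨hfi, hfst⟩).symm.trans (MulEquiv.ofBijective _ ⟨hsi, hsnd⟩)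
  refine ⟨e, ?_⟩
  have hex : ∀ x ∈ D, e x = Ψ x := by
    intro x hx
    have e1 : (MulEquiv.ofBijective _ ⟨hfi, hfst⟩).symm x = ⟨(x, Ψ x), subset_closure ⟨hx, rfl⟩⟩ :=
      (MulEquiv.symm_apply_eq _).2 rfl
    show (MulEquiv.ofBijective _ ⟨hsi, hsnd⟩) ((MulEquiv.ofBijective _ ⟨hfi, hfst⟩).symm x) = _
    rw [e1]
    rfl
  rw [Set.image_congr hex, hb.image_eq]

/-- Isomorphic link images force isomorphic groups. -/
theorem exists_equiv {d : G} {d' : G'} (hd : d ∈ D) (hd' : d' ∈ D') (e : Quot D d ≃* Quot D' d')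
    (he : e '' img D d = img D' d') : ∃ e : G ≃* G', e '' D = D' := by
  have hB := fun t (ht : t ∈ D) t' (ht' : t' ∈ D') => hubs S h S' h' hd hd' e he ht ht'
  obtain ⟨f, L⟩ := hB d hd d' hd'
  obtain ⟨Ψ, hb, hiff⟩ := exists_graph_map S h S' h' L hd hd' hB
  exact exists_equiv_of_graph S h S' h' hb hiff

end CfsgLib.FischerM24Unique
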