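import Cfsg.Agent.Lib.FischerM24Unique.Line
import Cfsg.Agent.Lib.FischerM24Unique.Lift
import Cfsg.Agent.Lib.FischerOrder.CountsM24
import Cfsg.Agent.Lib.FischerThompson.AutTop

set_option autoImplicit false

/-! Lifts at two commuting members agree after a correction. -/

namespace CfsgLib.FischerM24Unique

open Subgroup
open CfsgLib.ThreeTrans (link commute_conj_iff' conj_self_of_commute conj_conj_eq)
open CfsgLib.FischerType CfsgLib.FischerPairCent CfsgLib.FischerOrder

universe u v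

variable {G : Type u} [Group G] {D : Set G}

/-- A map from the group of the common neighbours of two commuting members onto one of type M(22). -/
def PairQuot (D : Set G) (a t : G) : Prop :=
  ∃ (Y : Type u) (_ : Group Y) (_ : Finite Y) (E : Set Y) (p : ↥(closure (cn D a t)) →* Y),
    Setting E ∧ Cfsg.IsOfTypeM22 Y E ∧ Function.Surjective p ∧
      ∀ x y : ↥(closure (cn D a t)), (x : G) ∈ cn D a t → (y : G) ∈ cn D a t → p x = p y → x = y

/-- An automorphism acting on the common neighbours as an inner one. -/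
def InnerOn (D : Set G) (a t : G) (σ : MulAut ↥(closure (cn D a t))) : Prop :=
  ∃ k : ↥(closure (cn D a t)), ∀ x : ↥(closure (cn D a t)), (x : G) ∈ cn D a t → σ x = k * x * k⁻¹

theorem commute_of_mem_closure_cn {a t k : G} (hk : k ∈ closure (cn D a t)) :
    Commute k a ∧ Commute k t :=
  closure_pair_commute' hk
where
  closure_pair_commute' {a t k : G} (hk : k ∈ closure (cn D a t)) : Commute k a ∧ Commute k t :=
    have hle : closure (cn D a t) ≤ centralizer {a, t} := (closure_le _).2 (cn_subset_centralizer a t)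
    ⟨(mem_centralizer_iff.1 (hle hk) a (by simp)).symm, (mem_centralizer_iff.1 (hle hk) t (by simp)).symm⟩

theorem conj_mem_cn (hc : Cfsg.IsThreeTranspositionClass D) {a t k x : G} (hka : Commute k a)
    (hkt : Commute k t) : k * x * k⁻¹ ∈ cn D a t ↔ x ∈ cn D a t := by
  have := mem_cn_conj (x := x) (a := a) (b := t) hc k
  rwa [conj_self_of_commute hka, conj_self_of_commute hkt] at this

theorem image_conj_cn (hc : Cfsg.IsThreeTranspositionClass D) (g a t : G) :
    (fun x => g * x * g⁻¹) '' cn D a t = cn D (g * a * g⁻¹) (g * t * g⁻¹) := by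
  ext y
  constructor
  · rintro ⟨x, hx, rfl⟩; exact (mem_cn_conj hc g).2 hx
  · intro hy
    refine ⟨g⁻¹ * y * g, (mem_cn_conj hc g).1 (by simpa [mul_assoc] using hy), by group⟩

theorem PairQuot.of_conj (hc : Cfsg.IsThreeTranspositionClass D) {g a t : G}
    (h : PairQuot D (g * a * g⁻¹) (g * t * g⁻¹)) : PairQuot D a t := by
  obtain ⟨Y, i1, i2, E, p, SY, hY, hsur, hinj⟩ := h
  obtain ⟨e, he⟩ := exists_restrict (fun x => g * x * g⁻¹) (image_conj_cn hc g a t)
    (fun x _ y _ => by group) fun x _ y _ h => mul_left_cancel (mul_right_cancel h)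
  refine ⟨Y, i1, i2, E, p.comp e.toMonoidHom, SY, hY, hsur.comp e.surjective, fun x y hx hy h => ?_⟩
  exact e.injective (hinj _ _ (by rw [he]; exact (mem_cn_conj hc g).2 hx)
    (by rw [he]; exact (mem_cn_conj hc g).2 hy) h)

/-- Automorphisms preserving the common neighbours: two outer ones have inner product. -/
theorem inner_mul [Finite G] {a t : G} (hc : Cfsg.IsThreeTranspositionClass D) (h : PairQuot D a t)
    (σ τ : MulAut ↥(closure (cn D a t)))
    (hσ : ∀ x : ↥(closure (cn D a t)), (x : G) ∈ cn D a t → (σ x : G) ∈ cn D a t)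
    (hτ : ∀ x : ↥(closure (cn D a t)), (x : G) ∈ cn D a t → (τ x : G) ∈ cn D a t)
    (h1 : ¬ InnerOn D a t σ) (h2 : ¬ InnerOn D a t τ) : InnerOn D a t (σ * τ) := by
  obtain ⟨Y, i1, i2, E, p, SY, hY, hsur, hinj⟩ := h
  have hconj : ∀ (k x : ↥(closure (cn D a t))), (x : G) ∈ cn D a t →
      ((k * x * k⁻¹ : ↥(closure (cn D a t))) : G) ∈ cn D a t := by
    intro k x hx
    obtain ⟨ka, kt⟩ := commute_of_mem_closure_cn k.2
    exact (conj_mem_cn hc ka kt).2 hx
  have hker : p.ker = center ↥(closure (cn D a t)) := by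
    refine le_antisymm (fun w hw => ?_) fun w hw => MonoidHom.mem_ker.2 ?_
    · have hgen : ∀ x : ↥(closure (cn D a t)), (x : G) ∈ cn D a t → Commute w x := fun x hx => by
        have h' : w * x * w⁻¹ = x := hinj _ _ (hconj w x hx) hx (by
          rw [map_mul, map_mul, map_inv, MonoidHom.mem_ker.1 hw, one_mul, inv_one, mul_one])
        exact mul_inv_eq_iff_eq_mul.1 h'
      have htop : closure {x : ↥(closure (cn D a t)) | (x : G) ∈ cn D a t} = ⊤ := closure_closure_coe_preimage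
      refine mem_center_iff.2 fun y => ?_
      have hy : y ∈ centralizer ({w} : Set ↥(closure (cn D a t))) := (closure_le _).2
        (fun x hx => mem_centralizer_singleton_iff.2 (hgen x hx).eq.symm) (htop ▸ mem_top y)
      exact mem_centralizer_singleton_iff.1 hy
    · rw [← mem_bot, ← SY.center_bot]
      refine mem_center_iff.2 fun y => ?_
      obtain ⟨y, rfl⟩ := hsur y
      rw [← map_mul, ← map_mul, mem_center_iff.1 hw y]
  let eY : ↥(closure (cn D a t)) ⧸ center ↥(closure (cn D a t)) ≃* Y := (QuotientGroup.quotientMulEquivOfEq hker.symm).trans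
    (QuotientGroup.quotientKerEquivOfSurjective p hsur)
  have heY : ∀ w : ↥(closure (cn D a t)), eY (QuotientGroup.mk w) = p w := fun w => rfl
  have hcen : ∀ ρ : MulAut ↥(closure (cn D a t)), (center ↥(closure (cn D a t))).map ρ.toMonoidHom = center ↥(closure (cn D a t)) := by
    intro ρ
    ext w
    constructor
    · rintro ⟨x, hx, rfl⟩
      refine mem_center_iff.2 fun y => ?_
      obtain ⟨y, rfl⟩ := ρ.surjective y
      show ρ y * ρ x = ρ x * ρ y
      rw [← map_mul, ← map_mul, mem_center_iff.1 hx y]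
    · intro hw
      refine ⟨ρ.symm w, mem_center_iff.2 fun y => ρ.injective ?_, ρ.apply_symm_apply w⟩
      rw [map_mul, map_mul, ρ.apply_symm_apply, mem_center_iff.1 hw (ρ y)]
  let bar : MulAut ↥(closure (cn D a t)) → MulAut Y := fun ρ =>
    (eY.symm.trans (QuotientGroup.congr _ _ ρ (hcen ρ))).trans eY
  have hbar : ∀ ρ w, bar ρ (p w) = p (ρ w) := fun ρ w => by
    show eY (QuotientGroup.congr _ _ ρ (hcen ρ) (eY.symm (p w))) = p (ρ w)
    rw [← heY w, eY.symm_apply_apply, ← heY]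
    rfl
  have hinner : ∀ ρ, (∀ x : ↥(closure (cn D a t)), (x : G) ∈ cn D a t → (ρ x : G) ∈ cn D a t) →
      bar ρ ∈ (MulAut.conj : Y →* MulAut Y).range → InnerOn D a t ρ := by
    rintro ρ hρ ⟨y, hy⟩
    obtain ⟨k, rfl⟩ := hsur y
    refine ⟨k, fun x hx => hinj _ _ (hρ x hx) (hconj k x hx) ?_⟩
    rw [← hbar, ← hy, map_mul, map_mul, map_inv, MulAut.conj_apply]
  have hmul : bar (σ * τ) = bar σ * bar τ := MulEquiv.ext fun y => by
    obtain ⟨w, rfl⟩ := hsur y
    rw [MulAut.mul_apply, hbar, hbar, hbar, MulAut.mul_apply]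
  refine hinner _ (fun x hx => hσ _ (hτ x hx)) ?_
  rw [hmul]
  exact CfsgLib.FischerThompson.index_of_typeM22 SY hY _ _ (fun h' => h1 (hinner σ hσ h'))
    fun h' => h2 (hinner τ hτ h')

variable [Finite G]

/-- Elements centralising the image of a neighbour come from the common neighbours. -/
theorem exists_lift_cn (S : Setting D) {t a : G} (ha : a ∈ link D t) {q : Quot D t}
    (hq : q ∈ closure (link (img D t) (toImg D t ha))) :
    ∃ k ∈ closure (cn D t a), ∃ hk : k ∈ closure (link D t),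
      (QuotientGroup.mk ⟨k, hk⟩ : Quot D t) = q := by
  have hle : closure (link (img D t) (toImg D t ha)) ≤
      ((closure (cn D t a)).subgroupOf (closure (link D t))).map (QuotientGroup.mk' _) := by
    refine (closure_le _).2 fun s hs => ?_
    obtain ⟨w, hw, rfl⟩ := exists_toImg hs.1
    exact ⟨⟨w, subset_closure hw⟩, mem_subgroupOf.2 (subset_closure
      ⟨hw, hw.1, fun e => hs.2.1 (by subst e; rfl), commute_of_toImg S.cls.1 ha hw hs.2.2⟩), rfl⟩
  obtain ⟨k, hk, e⟩ := hle hq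
  exact ⟨k, hk, k.2, e⟩

variable (S : Setting D) (h : Cfsg.IsOfTypeM24 G D)

include S h

/-- Every commuting pair has a map onto a group of type M(22). -/
theorem pairQuot_of_typeM24 {a t : G} (ha : a ∈ D) (ht : t ∈ link D a) : PairQuot D a t := by
  obtain ⟨d, hd, hpair, SX, hX⟩ := M24.exists_link_data S h
  obtain ⟨d₂, hd₂, hpair₂, SY, hY⟩ := CfsgLib.FischerCent.imgData_of_typeM23 SX hX
  obtain ⟨u, hu, rfl⟩ := exists_toImg hd₂
  obtain ⟨g, hga, hgt⟩ := S.exists_conj_pair ha ht hd hu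
  refine PairQuot.of_conj (g := g) S.cls ?_
  rw [hga, hgt]
  have hn := S.noCentral hd hpair
  have hn₂ := SX.noCentral (toImg_mem hu) hpair₂
  set W := closure (cn D d u)
  set H := closure (link D d)
  have hWH : W ≤ H := closure_mono fun x hx => hx.1
  let r : ↥W →* Quot D d := (QuotientGroup.mk' (center ↥H)).comp (Subgroup.inclusion hWH)
  have hr : ∀ w, r w ∈ closure (link (img D d) (toImg D d hu)) := by
    intro w
    have htop : closure {x : ↥W | (x : G) ∈ cn D d u} = ⊤ := closure_closure_coe_preimage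
    have : closure {x : ↥W | (x : G) ∈ cn D d u} ≤ (closure (link (img D d) (toImg D d hu))).comap r :=
      (closure_le _).2 fun x hx => subset_closure ((toImg_link_iff S hn hu hx.1).2 hx.2)
    exact this (htop ▸ mem_top w)
  refine ⟨_, inferInstance, inferInstance, img (img D d) (toImg D d hu),
    (QuotientGroup.mk' _).comp (r.codRestrict _ hr), SY, hY, ?_, ?_⟩
  · intro q
    obtain ⟨s, rfl⟩ := QuotientGroup.mk_surjective q
    obtain ⟨k, hk, hkH, e⟩ := exists_lift_cn S hu s.2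
    exact ⟨⟨k, hk⟩, congrArg QuotientGroup.mk (Subtype.ext e)⟩
  · intro x y hx hy h'
    have hx1 := (toImg_link_iff S hn hu hx.1).2 hx.2
    have hy1 := (toImg_link_iff S hn hu hy.1).2 hy.2
    have h1 : toImg D d hx.1 = toImg D d hy.1 := eq_of_toImg SX.cls.1 hn₂ hx1 hy1 h'
    exact Subtype.ext (eq_of_toImg S.cls.1 hn hx.1 hy.1 h1)

/-- Two neighbours of `w` not commuting with `a` are conjugate by the common neighbours of `a`, `w`. -/
theorem exists_cn_conj {a w y z : G} (hw : w ∈ D) (ha : a ∈ link D w) (hy : y ∈ link D w)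
    (hz : z ∈ link D w) (hay : ¬ Commute a y) (haz : ¬ Commute a z) :
    ∃ k ∈ closure (cn D a w), k * y * k⁻¹ = z := by
  obtain ⟨d, hd, hpair, SX, hX⟩ := M24.exists_link_data S h
  obtain ⟨g, hg⟩ := CfsgLib.ThreeTransp.class_conj S.cls hw hd
  have hlk : ∀ {x}, x ∈ link D w → g * x * g⁻¹ ∈ link D d := fun {x} hx =>
    hg ▸ link_conj_mem S.cls g hx
  set ā := toImg D d (hlk ha) with hā
  obtain ⟨-, d₂, hd₂, c₂, -, -, hY, -⟩ := id hX
  obtain ⟨u₂, hu₂, -⟩ := pair_of_typeM22_img (D := img D d) (d := d₂) hY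
  have hn := S.noCentral hd hpair
  have hnc : ∀ {x} (hx : x ∈ link D w), ¬ Commute a x → ¬ Commute ā (toImg D d (hlk hx)) :=
    fun {x} hx hax h' =>
      hax ((commute_conj_iff' g a x).1 (commute_of_toImg S.cls.1 (hlk ha) (hlk hx) h'))
  obtain ⟨q, hq, hqe⟩ := CfsgLib.ThreeTrans.rel_noncommuting SX.cls SX.prim (Setting.edge hd₂ hu₂)
    (toImg_mem (hlk ha)) (toImg_mem (hlk hy)) (toImg_mem (hlk hz)) (hnc hy hay) (hnc hz haz)
  have hqc : q ∈ closure (link (img D d) ā) := by
    rw [← CfsgLib.FischerCent.centralizer_eq_of_typeM23 SX hX (toImg_mem (hlk ha))]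
    exact mem_centralizer_singleton_iff.2 hq.eq
  obtain ⟨k, hk, hkH, rfl⟩ := exists_lift_cn S (hlk ha) hqc
  have hkd : Commute k d := (commute_of_mem_closure_cn hk).1
  have hm : k * (g * y * g⁻¹) * k⁻¹ ∈ link D d := by
    have := link_conj_mem S.cls k (hlk hy)
    rwa [conj_self_of_commute hkd] at this
  have e : k * (g * y * g⁻¹) * k⁻¹ = g * z * g⁻¹ := by
    refine eq_of_toImg S.cls.1 hn hm (hlk hz) (Eq.trans ?_ hqe)
    rw [← QuotientGroup.mk_inv, ← QuotientGroup.mk_mul, ← QuotientGroup.mk_mul]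
    rfl
  refine ⟨g⁻¹ * k * g, ?_, ?_⟩
  · obtain ⟨e₀, he₀⟩ := exists_restrict (fun x => g * x * g⁻¹) (image_conj_cn S.cls g a w)
      (fun x _ y _ => by group) fun x _ y _ h => mul_left_cancel (mul_right_cancel h)
    rw [cn_comm, ← hg] at hk
    obtain ⟨k₀, hk₀⟩ := e₀.surjective ⟨k, hk⟩
    have e1 : g * (k₀ : G) * g⁻¹ = k := by rw [← he₀, hk₀]
    rw [← e1, show g⁻¹ * (g * (k₀ : G) * g⁻¹) * g = k₀ by group]
    exact k₀.2
  · calc g⁻¹ * k * g * y * (g⁻¹ * k * g)⁻¹ = g⁻¹ * (k * (g * y * g⁻¹) * k⁻¹) * g := by group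
      _ = z := by rw [e]; group

omit S h

variable {G' : Type v} [Group G'] [Finite G'] {D' : Set G'}

/-- A lift at a neighbour agreeing with a given one on the common neighbours. -/
theorem exists_matched (S : Setting D) (h : Cfsg.IsOfTypeM24 G D) (S' : Setting D')
    (h' : Cfsg.IsOfTypeM24 G' D')
    (hB : ∀ t ∈ D, ∀ t' ∈ D', ∃ ψ, Lift D D' t t' ψ) {a : G} {a' : G'} {f : G → G'}
    (L : Lift D D' a a' f) (ha : a ∈ D) (ha' : a' ∈ D') {t : G} (ht : t ∈ link D a) :
    ∃ ψ, Lift D D' t (f t) ψ ∧ ψ a = a' ∧ ∀ x ∈ cn D a t, ψ x = f x := by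
  have hat : a ∈ link D t := link_symm ha ht
  have ht' : f t ∈ link D' a' := L.link_mem ht
  set t' := f t with htdef
  have ha't : a' ∈ link D' t' := link_symm ha' ht'
  obtain ⟨ψ₀, L₀⟩ := hB t ht.1 t' ht'.1
  obtain ⟨k, hk, hke⟩ := S'.exists_conj_link ht'.1 (L₀.link_mem hat) ha't
  have hkt : Commute k t' :=
    mem_centralizer_singleton_iff.1 (CfsgLib.FischerUnique.closure_link_le_centralizer hk)
  have L₁ := L₀.conjLeft S'.cls k
  rw [conj_self_of_commute hkt] at L₁
  set ψ := fun x => k * ψ₀ x * k⁻¹ with hψdef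
  have hψa : ψ a = a' := hke
  -- the two restrictions
  have hWa : ∀ {x}, x ∈ closure (cn D a t) → Commute x a ∧ Commute x t := fun {x} hx =>
    commute_of_mem_closure_cn hx
  obtain ⟨ef, hef⟩ := exists_restrict f (L.image_cn ht)
    (fun x hx y hy => L.map_mul x y (hWa hx).1 (hWa hy).1)
    fun x hx y hy => L.inj x y (hWa hx).1 (hWa hy).1
  have himgψ : ψ '' cn D a t = cn D' a' t' := by
    rw [cn_comm, L₁.image_cn hat, hψa, cn_comm]
  obtain ⟨eψ, heψ⟩ := exists_restrict ψ himgψ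
    (fun x hx y hy => L₁.map_mul x y (hWa hx).2 (hWa hy).2)
    fun x hx y hy => L₁.inj x y (hWa hx).2 (hWa hy).2
  set α : MulAut ↥(closure (cn D' a' t')) := eψ.symm.trans ef with hα
  have hαψ : ∀ x (hx : x ∈ cn D a t) (hx' : ψ x ∈ closure (cn D' a' t')),
      (α ⟨ψ x, hx'⟩ : G') = f x := by
    intro x hx hx'
    have e : eψ.symm ⟨ψ x, hx'⟩ = ⟨x, subset_closure hx⟩ := by
      rw [MulEquiv.symm_apply_eq]
      exact Subtype.ext (heψ ⟨x, subset_closure hx⟩).symm
    rw [hα, MulEquiv.trans_apply, e, hef]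
  have hαcn : ∀ y : ↥(closure (cn D' a' t')), (y : G') ∈ cn D' a' t' → (α y : G') ∈ cn D' a' t' := by
    rintro ⟨y, hy⟩ hyc
    obtain ⟨x, hx, e⟩ := himgψ.ge hyc
    subst e
    rw [hαψ x hx hy]
    exact (L.mem_cn_iff ht hx.1).2 hx
  by_cases hin : InnerOn D' a' t' α
  · obtain ⟨j, hj⟩ := hin
    obtain ⟨hja, hjt⟩ := commute_of_mem_closure_cn j.2
    have L₂ := L₁.conjLeft S'.cls (j : G')
    rw [conj_self_of_commute hjt] at L₂
    refine ⟨_, L₂, ?_, fun x hx => ?_⟩
    · show (j : G') * ψ a * (j : G')⁻¹ = a'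
      rw [hψa, conj_self_of_commute hja]
    · have hmem : ψ x ∈ cn D' a' t' := himgψ.le ⟨x, hx, rfl⟩
      rw [← hαψ x hx (subset_closure hmem), hj ⟨ψ x, subset_closure hmem⟩ hmem]
      rfl
  exfalso
  -- the exchange of the pair
  obtain ⟨g, hga, hgt⟩ := S'.exists_conj_pair ha' ht' ht'.1 ha't
  have hgimg : (fun x => g * x * g⁻¹) '' cn D' a' t' = cn D' a' t' := by
    rw [image_conj_cn S'.cls, hga, hgt, cn_comm]
  obtain ⟨σ, hσ⟩ := exists_restrict (fun x => g * x * g⁻¹) hgimg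
    (fun x _ y _ => by group) fun x _ y _ h => mul_left_cancel (mul_right_cancel h)
  have hσcn : ∀ y : ↥(closure (cn D' a' t')), (y : G') ∈ cn D' a' t' → (σ y : G') ∈ cn D' a' t' :=
    fun y hy => by rw [hσ]; exact hgimg.le ⟨_, hy, rfl⟩
  obtain ⟨c, hc, hac⟩ := (img_of_typeM24 S h ht.1).1 a hat
  set c' := ψ c with hc'def
  have hc' : c' ∈ link D' t' := L₁.link_mem hc
  have hac' : ¬ Commute a' c' := by
    rw [← hψa, hc'def, L₁.commute_iff hat.2.2.symm hc.2.2.symm]; exact hac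
  have hNC := noCross_of_typeM24 S' h'
  have houter : ¬ InnerOn D' a' t' σ := by
    rintro ⟨j, hj⟩
    obtain ⟨hja, hjt⟩ := commute_of_mem_closure_cn j.2
    set z := g * c' * g⁻¹ with hz
    have hzl : z ∈ link D' a' := hgt ▸ link_conj_mem S'.cls g hc'
    have hzt : ¬ Commute t' z := hga ▸ fun h'' => hac' ((commute_conj_iff' g a' c').1 h'')
    set z₁ := (j : G')⁻¹ * z * (j : G') with hz₁
    have e1 : (j : G') * z₁ * (j : G')⁻¹ = z := by rw [hz₁]; group
    have hz₁l : z₁ ∈ link D' a' := by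
      rw [← mem_link_conj S'.cls (j : G'), e1, conj_self_of_commute hja]; exact hzl
    refine hNC a' ha' t' ht'.1 c' hc'.1 z₁ hz₁l.1 hac' (fun h'' => hzt ?_) ht'.2.1 ht'.2.2 hz₁l.2.2
      hc'.2.2.symm fun x hx hxt => ?_
    · rw [← e1]
      have h3 := (commute_conj_iff' (j : G') _ _).2 h''
      rwa [conj_self_of_commute hjt] at h3
    · have hxc : x ∈ cn D' a' t' := ⟨hx.1, hxt⟩
      have h1 := congrArg Subtype.val (hj ⟨x, subset_closure hxc⟩ hxc)
      rw [hσ] at h1
      rw [← commute_conj_iff' (j : G'), e1, ← show g * x * g⁻¹ = (j : G') * x * (j : G')⁻¹ from h1, hz]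
      exact (commute_conj_iff' g x c').2 hx.2.2.2.symm
  obtain ⟨j, hj⟩ := inner_mul S'.cls (pairQuot_of_typeM24 S' h' ha' ht') α σ hαcn hσcn hin houter
  obtain ⟨hja, hjt⟩ := commute_of_mem_closure_cn j.2
  set z₀ := g⁻¹ * c' * g with hz₀
  have e0 : g * z₀ * g⁻¹ = c' := by rw [hz₀]; group
  have hz₀l : z₀ ∈ link D' a' := by rw [← mem_link_conj S'.cls g, e0, hga]; exact hc'
  have hz₁l : (j : G') * z₀ * (j : G')⁻¹ ∈ link D' a' := by
    have := link_conj_mem S'.cls (j : G') hz₀l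
    rwa [conj_self_of_commute hja] at this
  obtain ⟨z, hz, hze⟩ := L.exists_link hz₁l
  refine noCross_of_typeM24 S h a ha t ht.1 c hc.1 z hz.1 hac (fun h'' => hac' ?_) ht.2.1 ht.2.2
    hz.2.2 hc.2.2.symm fun x hx hxt => ?_
  · have h1 := (L.commute_iff ht.2.2.symm hz.2.2.symm).2 h''
    rw [hze, ← htdef] at h1
    have h3 : Commute t' z₀ := (commute_conj_iff' (j : G') t' z₀).1 (by rwa [conj_self_of_commute hjt])
    have h4 := (commute_conj_iff' g t' z₀).2 h3
    rwa [hgt, e0] at h4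
  · have hxa : x ∈ cn D a t := ⟨hx.1, hxt⟩
    have hψx : ψ x ∈ cn D' a' t' := himgψ.le ⟨x, hxa, rfl⟩
    obtain ⟨y, hy, hye⟩ := hgimg.ge hψx
    simp only at hye
    have h1 : (α (σ ⟨y, subset_closure hy⟩) : G') = (j : G') * y * (j : G')⁻¹ :=
      congrArg Subtype.val (hj ⟨y, subset_closure hy⟩ hy)
    rw [show σ ⟨y, subset_closure hy⟩ = ⟨ψ x, subset_closure hψx⟩ from
      Subtype.ext ((hσ _).trans hye), hαψ x hxa] at h1
    refine (L.commute_iff hx.1.2.2.symm hz.2.2.symm).1 ?_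
    rw [h1, hze, commute_conj_iff', ← commute_conj_iff' g, e0, hye]
    exact (L₁.commute_iff hxt.2.2.symm hc.2.2.symm).2 hx.2.2.2.symm

end CfsgLib.FischerM24Unique
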